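import Cfsg.Agent.H424.Spr.Core
import Cfsg.Agent.H947.Cyc.Psl2
import Cfsg.Agent.H436.TTPsl2
import Cfsg.Agent.S0799
import Cfsg.Agent.S0811
import Cfsg.Agent.S0252
import Cfsg.Agent.S0253
import Cfsg.Agent.S0254
import Cfsg.Agent.H424.Spr.AltC

/-!
# 3/2-generation, rank one (helper947, for S3938): `PSL₂(q)`
-/

set_option autoImplicit false
set_option linter.style.haveILetI false

namespace Cfsg.Agent.H947.Spr

open MulAction Subgroup Cfsg Cfsg.Agent.H396 Cfsg.Agent.H394.SqPsl2 Cfsg.Agent.H394.SqBasic Cfsg.Agent.H424.Spr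

universe u

theorem mem_normalizer_of_conj {G : Type*} [Group G] [Finite G] {s y : G} (h : y * s * y⁻¹ ∈ zpowers s) :
    y ∈ Subgroup.normalizer ((zpowers s : Subgroup G) : Set G) := by
  refine Subgroup.mem_normalizer_fintype (fun n hn => ?_)
  obtain ⟨c, rfl⟩ := mem_zpowers_iff.1 hn
  rw [← conj_zpow]
  exact zpow_mem h c

theorem norm_of_cyclic {G : Type*} [Group G] [Finite G] {M : Subgroup G} (hM : IsCyclic M) {s : G} (hs : s ∈ M) :
    M ≤ Subgroup.normalizer ((zpowers s : Subgroup G) : Set G) := by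
  intro y hy
  apply mem_normalizer_of_conj
  have h1 := hM.commGroup.mul_comm (⟨y, hy⟩ : M) ⟨s, hs⟩
  have h2 : y * s = s * y := congrArg Subtype.val h1
  rw [h2, mul_inv_cancel_right]
  exact mem_zpowers s

theorem norm_of_dihedral {G : Type*} [Group G] [Finite G] {M : Subgroup G} {k : ℕ} (e : M ≃* DihedralGroup k) {s : G}
    (hs : s ∈ M) (h3 : 3 ≤ orderOf s) : M ≤ Subgroup.normalizer ((zpowers s : Subgroup G) : Set G) := by
  have ho : orderOf (e ⟨s, hs⟩) = orderOf s := by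
    rw [e.orderOf_eq, Subgroup.orderOf_mk]
  obtain ⟨i, hi⟩ : ∃ i, e ⟨s, hs⟩ = DihedralGroup.r i := by
    rcases h : e ⟨s, hs⟩ with i | i
    · exact ⟨i, rfl⟩
    · exfalso
      rw [h, DihedralGroup.orderOf_sr] at ho
      omega
  intro y hy
  apply mem_normalizer_of_conj
  rcases h : e ⟨y, hy⟩ with j | j
  · have h1 : (⟨y, hy⟩ : M) * ⟨s, hs⟩ * (⟨y, hy⟩ : M)⁻¹ = ⟨s, hs⟩ := by
      apply e.injective
      rw [map_mul, map_mul, map_inv, h, hi]
      rw [DihedralGroup.r_mul_r, mul_inv_eq_iff_eq_mul, DihedralGroup.r_mul_r, add_comm]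
    have h2 : y * s * y⁻¹ = s := congrArg Subtype.val h1
    rw [h2]
    exact mem_zpowers s
  · have h1 : (⟨y, hy⟩ : M) * ⟨s, hs⟩ * (⟨y, hy⟩ : M)⁻¹ = (⟨s, hs⟩ : M)⁻¹ := by
      apply e.injective
      rw [map_mul, map_mul, map_inv, map_inv, h, hi]
      rw [mul_inv_eq_iff_eq_mul, DihedralGroup.sr_mul_r, DihedralGroup.inv_r, DihedralGroup.r_mul_sr]
      congr 1
      ring
    have h2 : y * s * y⁻¹ = s⁻¹ := congrArg Subtype.val h1
    rw [h2]
    exact inv_mem (mem_zpowers s)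

theorem ord_a5 (x : alternatingGroup (Fin 5)) : x ^ 2 = 1 ∨ x ^ 3 = 1 ∨ x ^ 5 = 1 := by
  revert x
  decide +kernel

theorem ord_s4 (x : Equiv.Perm (Fin 4)) : x ^ 3 = 1 ∨ x ^ 4 = 1 := by
  revert x
  decide +kernel

variable {F : Type*} [Field F] [Fintype F]

theorem psl2_one (h4 : 4 ≤ Fintype.card F) (h5 : Fintype.card F ≠ 5) (h7 : Fintype.card F ≠ 7)
    (h9 : Fintype.card F ≠ 9) {s : Matrix.ProjectiveSpecialLinearGroup (Fin 2) F}
    (hs : orderOf s = (Fintype.card F + 1) / Nat.gcd 2 (Fintype.card F - 1))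
    {M : Subgroup (Matrix.ProjectiveSpecialLinearGroup (Fin 2) F)} (hsM : s ∈ M) (hM : M ≠ ⊤) :
    M ≤ Subgroup.normalizer ((zpowers s : Subgroup (Matrix.ProjectiveSpecialLinearGroup (Fin 2) F)) :
      Set (Matrix.ProjectiveSpecialLinearGroup (Fin 2) F)) := by
  classical
  obtain ⟨q, hq⟩ : ∃ q, Fintype.card F = q := ⟨_, rfl⟩
  obtain ⟨p, hchar⟩ := CharP.exists F
  have hp : Fact p.Prime := ⟨CharP.char_is_prime F p⟩
  obtain ⟨⟨N, hN0⟩, hpN, hN⟩ := FiniteField.card F p
  simp only [PNat.mk_coe] at hN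
  have hcard := card_psl (F := F)
  have : Finite (Matrix.ProjectiveSpecialLinearGroup (Fin 2) F) := Quotient.finite _
  have hdick := Cfsg.Agent.S0799.result hq p M
  have hindN := fun P => Cfsg.Agent.H436.TT.index_normalizer (F := F) p P
  rw [hq] at hcard h4 hN hs h5 h7 h9
  have hpq : p ∣ q := by rw [hN]; exact dvd_pow_self p hN0.ne'
  obtain ⟨d, hd⟩ : ∃ d, Nat.gcd 2 (q - 1) = d := ⟨_, rfl⟩
  rw [hd] at hcard hs
  have hd2 : d ∣ 2 := hd ▸ Nat.gcd_dvd_left _ _
  have hdpos : 0 < d := Nat.pos_of_dvd_of_pos hd2 (by norm_num)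
  have hdle : d ≤ 2 := Nat.le_of_dvd (by norm_num) hd2
  have hdq' : d ∣ q - 1 := hd ▸ Nat.gcd_dvd_right _ _
  have hdq : d ∣ q + 1 := by
    rcases (Nat.dvd_prime Nat.prime_two).1 hd2 with h1 | h1
    · rw [h1]; exact one_dvd _
    · rw [h1]
      have h2 : 2 ∣ q - 1 := by rw [← h1]; exact hdq'
      omega
  have hdone : d = 1 → q % 2 = 0 := by
    intro h1
    by_contra h2
    have h3 : 2 ∣ d := by
      rw [← hd]
      exact Nat.dvd_gcd dvd_rfl (by omega)
    omega
  obtain ⟨n, hn⟩ : ∃ n, (q + 1) / d = n := ⟨_, rfl⟩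
  rw [hn] at hs
  have hnd : d * n = q + 1 := by rw [← hn]; exact Nat.mul_div_cancel' hdq
  have hn5 : 5 ≤ n := by
    rcases (Nat.dvd_prime Nat.prime_two).1 hd2 with h1 | h1
    · rw [h1] at hnd; omega
    · rw [h1] at hnd
      have h8 : q ≠ 8 := by omega
      omega
  have hn6 : q ≠ 4 → 6 ≤ n := by
    intro hq4
    rcases (Nat.dvd_prime Nat.prime_two).1 hd2 with h1 | h1
    · have := hdone h1
      rw [h1] at hnd; omega
    · rw [h1] at hnd
      omega
  have hnq : n ∣ q + 1 := ⟨d, by rw [← hnd]; ring⟩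
  have hnM : n ∣ Nat.card M := hs ▸ Subgroup.orderOf_dvd_natCard _ hsM
  have hfac := sub_mul_self (q := q) (by omega)
  rw [hfac] at hcard
  have hn2 : ¬ n ∣ 2 := fun h => by have := Nat.le_of_dvd (by norm_num) h; omega
  have hncop : Nat.Coprime n q := by
    have h1 : Nat.Coprime (q + 1) q := by simp
    exact h1.coprime_dvd_left hnq
  have hnq1 : ¬ n ∣ q - 1 := by
    intro h
    have h3 : n ∣ (q + 1) - (q - 1) := Nat.dvd_sub hnq h
    rw [show (q + 1) - (q - 1) = 2 by omega] at h3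
    exact hn2 h3
  rcases hdick with ⟨k, hk, hk'⟩ | ⟨P, K, hK, ⟨e⟩⟩ | ⟨⟨e⟩⟩ | ⟨⟨e⟩⟩ | ⟨⟨e⟩⟩ | ⟨K, iK, iK', m, hm, he⟩
  · rcases hk' with ⟨h, -⟩ | ⟨⟨e⟩⟩
    · exact norm_of_cyclic h hsM
    · exact norm_of_dihedral e hsM (by omega)
  · -- Borel subgroups
    exfalso
    have h1 := hindN P
    rw [hq] at h1
    have h2 := (normalizer ((P : Subgroup (Matrix.ProjectiveSpecialLinearGroup (Fin 2) F)) :
      Set (Matrix.ProjectiveSpecialLinearGroup (Fin 2) F))).card_mul_index
    rw [h1] at h2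
    have h3 : n ∣ Nat.card (normalizer ((P : Subgroup (Matrix.ProjectiveSpecialLinearGroup (Fin 2) F)) :
      Set (Matrix.ProjectiveSpecialLinearGroup (Fin 2) F))) := by
      refine hnM.trans ?_
      rw [Nat.card_congr e.toEquiv]
      exact card_dvd_of_le hK
    obtain ⟨b, hb⟩ : ∃ b, Nat.card (normalizer ((P : Subgroup (Matrix.ProjectiveSpecialLinearGroup (Fin 2) F)) :
      Set (Matrix.ProjectiveSpecialLinearGroup (Fin 2) F))) = b := ⟨_, rfl⟩
    rw [hb] at h2 h3
    have h5 : d * b = q * (q - 1) := by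
      apply Nat.eq_of_mul_eq_mul_left (show 0 < q + 1 by omega)
      calc (q + 1) * (d * b) = d * (b * (q + 1)) := by ring
        _ = q * ((q + 1) * (q - 1)) := by rw [h2]; exact hcard
        _ = (q + 1) * (q * (q - 1)) := by ring
    exact hnq1 (hncop.dvd_of_dvd_mul_left (h5 ▸ h3.mul_left d))
  · -- `A₄`
    exfalso
    have h1 : orderOf ((e ⟨s, hsM⟩ : alternatingGroup (Fin 4)) : Equiv.Perm (Fin 4)) = n := by
      rw [Subgroup.orderOf_coe, e.orderOf_eq, Subgroup.orderOf_mk, hs]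
    rcases ord_s4 (e ⟨s, hsM⟩ : alternatingGroup (Fin 4)) with h2 | h2 <;>
    · have h3 := Nat.le_of_dvd (by norm_num) (orderOf_dvd_of_pow_eq_one h2)
      omega
  · -- `S₄`
    exfalso
    have h1 : orderOf (e ⟨s, hsM⟩) = n := by
      rw [e.orderOf_eq, Subgroup.orderOf_mk, hs]
    rcases ord_s4 (e ⟨s, hsM⟩) with h2 | h2 <;>
    · have h3 := Nat.le_of_dvd (by norm_num) (orderOf_dvd_of_pow_eq_one h2)
      omega
  · -- `A₅`
    exfalso
    by_cases hq4 : q = 4
    · have h60 : Nat.card M = 60 := by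
        rw [Nat.card_congr e.toEquiv, nat_card_alternatingGroup, Nat.card_eq_fintype_card, Fintype.card_fin]
        rfl
      apply hM
      apply Subgroup.eq_top_of_card_eq
      rw [h60]
      have hd1 : d = 1 := by
        rw [← hd, hq4]
        rfl
      rw [hd1, hq4, one_mul] at hcard
      omega
    · have h6 := hn6 hq4
      have h1 : orderOf (e ⟨s, hsM⟩) = n := by
        rw [e.orderOf_eq, Subgroup.orderOf_mk, hs]
      rcases ord_a5 (e ⟨s, hsM⟩) with h2 | h2 | h2 <;>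
      · have h3 := Nat.le_of_dvd (by norm_num) (orderOf_dvd_of_pow_eq_one h2)
        omega
  · -- subfields
    exfalso
    obtain ⟨q0, hq0⟩ : ∃ q0, Fintype.card K = q0 := ⟨_, rfl⟩
    have hq01 : 1 < q0 := hq0 ▸ Fintype.one_lt_card
    rw [hq0] at hm
    have hm0 : m ≠ 0 := by rintro rfl; rw [pow_zero] at hm; omega
    have hM1 : Nat.card M ∣ q0 * (q0 ^ 2 - 1) ∧ (q0 = q → Nat.card (Matrix.ProjectiveSpecialLinearGroup (Fin 2) F) ≤ Nat.card M) := by
      rcases he with ⟨⟨e⟩⟩ | ⟨⟨e⟩⟩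
      · have h1 := card_psl (F := K)
        rw [hq0, ← Nat.card_congr e.toEquiv] at h1
        refine ⟨⟨_, by rw [← h1]; ring⟩, ?_⟩
        rintro rfl
        rw [hd, hfac, ← hcard] at h1
        exact (Nat.eq_of_mul_eq_mul_left hdpos h1).ge
      · have h1 := card_pgl (F := K)
        rw [hq0, ← Nat.card_congr e.toEquiv] at h1
        refine ⟨by rw [h1], ?_⟩
        rintro rfl
        rw [h1, hfac, ← hcard]
        exact Nat.le_mul_of_pos_left _ hdpos
    have hn0 : n ∣ q0 ^ 2 - 1 := by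
      have h1 : Nat.Coprime n q0 := hncop.coprime_dvd_right (by rw [← hm]; exact dvd_pow_self q0 hm0)
      exact h1.dvd_of_dvd_mul_left (hnM.trans hM1.1)
    have h1sq : 1 ≤ q0 ^ 2 := Nat.one_le_pow _ _ (by omega)
    rcases Nat.even_or_odd m with ⟨j, hj⟩ | ⟨j, hj⟩
    · -- `m = 2 j`
      have h1 : n ∣ q - 1 := by
        have h2 : q0 ^ 2 - 1 ∣ (q0 ^ 2) ^ j - 1 ^ j := Nat.sub_dvd_pow_sub_pow _ _ _
        rw [one_pow, ← pow_mul, show 2 * j = m by omega, hm] at h2
        exact hn0.trans h2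
      exact hnq1 h1
    · rcases Nat.eq_zero_or_pos j with rfl | hj0
      · -- `m = 1`
        rw [mul_zero, zero_add] at hj
        rw [hj, pow_one] at hm
        exact hM (Subgroup.eq_top_of_le_card M (hM1.2 hm))
      · have h2 : q0 ^ 2 - 1 ∣ (q0 ^ 2) ^ j - 1 ^ j := Nat.sub_dvd_pow_sub_pow _ _ _
        rw [one_pow, ← pow_mul] at h2
        have h3 : n ∣ q0 + 1 := by
          have h4 : q + 1 = (q0 ^ (2 * j) - 1) * q0 + (q0 + 1) := by
            have h5 : 1 ≤ q0 ^ (2 * j) := Nat.one_le_pow _ _ (by omega)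
            rw [Nat.sub_mul, one_mul, ← pow_succ, ← hj, hm]
            have h6 : q0 ≤ q := by rw [← hm]; exact Nat.le_self_pow hm0 q0
            omega
          rw [h4] at hnq
          exact (Nat.dvd_add_right ((hn0.trans h2).mul_right _)).1 hnq
        have h4 := Nat.le_of_dvd (by omega) h3
        have h5 : q0 ^ 3 ≤ q := by
          rw [← hm]
          exact Nat.pow_le_pow_right (by omega) (by omega)
        have h6 : q + 1 ≤ 2 * (q0 + 1) := by
          rw [← hnd]
          exact Nat.mul_le_mul hdle h4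
        have h7 : 4 * q0 ≤ q0 ^ 3 := by
          have : 2 * 2 * q0 ≤ q0 * q0 * q0 := Nat.mul_le_mul_right q0 (Nat.mul_le_mul hq01 hq01)
          calc 4 * q0 = 2 * 2 * q0 := by ring
            _ ≤ q0 * q0 * q0 := this
            _ = q0 ^ 3 := by ring
        omega

/-- `PSL₂(7)` -/
theorem psl2_seven (h7 : Fintype.card F = 7) {s : Matrix.ProjectiveSpecialLinearGroup (Fin 2) F}
    (hs : orderOf s = 7) {M : Subgroup (Matrix.ProjectiveSpecialLinearGroup (Fin 2) F)} (hsM : s ∈ M) (hM : M ≠ ⊤) :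
    M ≤ Subgroup.normalizer ((zpowers s : Subgroup (Matrix.ProjectiveSpecialLinearGroup (Fin 2) F)) :
      Set (Matrix.ProjectiveSpecialLinearGroup (Fin 2) F)) := by
  classical
  obtain ⟨p, hchar⟩ := CharP.exists F
  have hp : Fact p.Prime := ⟨CharP.char_is_prime F p⟩
  obtain ⟨⟨N, hN0⟩, hpN, hN⟩ := FiniteField.card F p
  simp only [PNat.mk_coe] at hN
  have hp7 : p = 7 := by
    rw [h7] at hN
    exact (Nat.prime_dvd_prime_iff_eq hp.out (by norm_num)).1 (by rw [hN]; exact dvd_pow_self p hN0.ne')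
  subst hp7
  have : Finite (Matrix.ProjectiveSpecialLinearGroup (Fin 2) F) := Quotient.finite _
  have hcard : Nat.card (Matrix.ProjectiveSpecialLinearGroup (Fin 2) F) = 168 := by
    have h1 := card_psl (F := F)
    rw [h7] at h1
    have h2 : Nat.gcd 2 (7 - 1) = 2 := rfl
    rw [h2] at h1
    omega
  have h7M : 7 ∣ Nat.card M := hs ▸ Subgroup.orderOf_dvd_natCard _ hsM
  rcases Cfsg.Agent.S0799.result h7 7 M with ⟨k, hk, hk'⟩ | ⟨P, K, hK, ⟨e⟩⟩ | ⟨⟨e⟩⟩ | ⟨⟨e⟩⟩ | ⟨⟨e⟩⟩ | ⟨K, iK, iK', m, hm, he⟩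
  · rcases hk' with ⟨h, -⟩ | ⟨⟨e⟩⟩
    · exact norm_of_cyclic h hsM
    · exact norm_of_dihedral e hsM (by omega)
  · -- Borel subgroups
    have hes : (e ⟨s, hsM⟩ : Matrix.ProjectiveSpecialLinearGroup (Fin 2) F) ∈ (P : Subgroup _) := by
      have ho : orderOf ((e ⟨s, hsM⟩ : K) : Matrix.ProjectiveSpecialLinearGroup (Fin 2) F) = 7 := by
        rw [Subgroup.orderOf_coe, e.orderOf_eq, Subgroup.orderOf_mk, hs]
      have h1 : IsPGroup 7 (zpowers ((e ⟨s, hsM⟩ : K) : Matrix.ProjectiveSpecialLinearGroup (Fin 2) F)) :=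
        IsPGroup.of_card (n := 1) (by rw [Nat.card_zpowers, ho, pow_one])
      have h2 := IsPGroup.to_sup_of_normal_right' h1 P.isPGroup' (zpowers_le.2 (hK (e ⟨s, hsM⟩).2))
      have h3 := P.is_maximal' h2 le_sup_right
      rw [← h3]
      exact mem_sup_left (mem_zpowers _)
    have hPc : Nat.card P = 7 := by
      rw [P.card_eq_multiplicity, hcard]
      have : (168 : ℕ).factorization 7 = 1 := by
        rw [show (168 : ℕ) = 24 * 7 by norm_num, Nat.factorization_mul (by norm_num) (by norm_num),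
          Finsupp.add_apply, Nat.Prime.factorization_self (by norm_num),
          Nat.factorization_eq_zero_of_not_dvd (by norm_num)]
      rw [this, pow_one]
    have hPz : (P : Subgroup (Matrix.ProjectiveSpecialLinearGroup (Fin 2) F)) =
        zpowers ((e ⟨s, hsM⟩ : K) : Matrix.ProjectiveSpecialLinearGroup (Fin 2) F) := by
      symm
      apply Subgroup.eq_of_le_of_card_ge (zpowers_le.2 hes)
      rw [Nat.card_zpowers, Subgroup.orderOf_coe, e.orderOf_eq, Subgroup.orderOf_mk, hs]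
      exact hPc.le
    intro y hy
    apply mem_normalizer_of_conj
    have h1 := (Subgroup.mem_normalizer_iff.1 (hK (e ⟨y, hy⟩).2) _).1 hes
    have h2 : ((e ⟨y, hy⟩ : K) : Matrix.ProjectiveSpecialLinearGroup (Fin 2) F) * (e ⟨s, hsM⟩ : K) *
        ((e ⟨y, hy⟩ : K) : Matrix.ProjectiveSpecialLinearGroup (Fin 2) F)⁻¹ ∈
        zpowers ((e ⟨s, hsM⟩ : K) : Matrix.ProjectiveSpecialLinearGroup (Fin 2) F) := by
      rw [← hPz]
      exact h1
    obtain ⟨j, hj⟩ := mem_zpowers_iff.1 h2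
    refine mem_zpowers_iff.2 ⟨j, ?_⟩
    have h3 : (e ⟨s, hsM⟩) ^ j = e ⟨y, hy⟩ * e ⟨s, hsM⟩ * (e ⟨y, hy⟩)⁻¹ := Subtype.ext hj
    rw [← map_zpow, ← map_mul, ← map_inv, ← map_mul] at h3
    exact congrArg Subtype.val (e.injective h3)
  · exfalso
    rw [Nat.card_congr e.toEquiv, nat_card_alternatingGroup, Nat.card_eq_fintype_card, Fintype.card_fin] at h7M
    revert h7M
    decide
  · exfalso
    rw [Nat.card_congr e.toEquiv, Nat.card_perm, Nat.card_eq_fintype_card, Fintype.card_fin] at h7M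
    revert h7M
    decide
  · exfalso
    rw [Nat.card_congr e.toEquiv, nat_card_alternatingGroup, Nat.card_eq_fintype_card, Fintype.card_fin] at h7M
    revert h7M
    decide
  · exfalso
    have hm0 : m ≠ 0 := by rintro rfl; rw [pow_zero] at hm; omega
    have hK1 : 1 < Fintype.card K := Fintype.one_lt_card
    have hK7 : Fintype.card K = 7 := by
      have h1 : Fintype.card K ∣ 7 := by rw [← hm]; exact dvd_pow_self _ hm0
      rcases (Nat.dvd_prime (by norm_num : Nat.Prime 7)).1 h1 with h2 | h2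
      · omega
      · exact h2
    apply hM
    apply Subgroup.eq_top_of_le_card M
    rw [hcard]
    rcases he with ⟨⟨e⟩⟩ | ⟨⟨e⟩⟩
    · have h1 := card_psl (F := K)
      rw [hK7, ← Nat.card_congr e.toEquiv] at h1
      have h2 : Nat.gcd 2 (7 - 1) = 2 := rfl
      rw [h2] at h1
      omega
    · have h1 := card_pgl (F := K)
      rw [hK7, ← Nat.card_congr e.toEquiv] at h1
      omega

/-- the row for a simple group with a special element -/
theorem spr_of_norm {G : Type*} [Group G] [Finite G] [IsSimpleGroup G] (hna : ∃ x y : G, x * y ≠ y * x) {s : G}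
    (hs1 : s ≠ 1)
    (h : ∀ M : Subgroup G, s ∈ M → M ≠ ⊤ → M ≤ Subgroup.normalizer ((zpowers s : Subgroup G) : Set G)) : Spr G := by
  refine spr_of_one hna (s := s) (M := Subgroup.normalizer ((zpowers s : Subgroup G) : Set G)) (fun ht => ?_)
    (fun K hK hK' => h K hK hK')
  have hn : (zpowers s).Normal := Subgroup.normalizer_eq_top_iff.1 ht
  rcases hn.eq_bot_or_eq_top with h1 | h1
  · exact hs1 (zpowers_eq_bot.1 h1)
  · obtain ⟨x, y, hxy⟩ := hna
    apply hxy
    have hx : x ∈ zpowers s := by rw [h1]; trivial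
    have hy : y ∈ zpowers s := by rw [h1]; trivial
    obtain ⟨i, rfl⟩ := mem_zpowers_iff.1 hx
    obtain ⟨j, rfl⟩ := mem_zpowers_iff.1 hy
    exact ((Commute.refl s).zpow_zpow i j)

theorem not_comm_of_center {G : Type*} [Group G] [Nontrivial G] (hc : center G = ⊥) : ∃ x y : G, x * y ≠ y * x := by
  by_contra hcon
  push Not at hcon
  obtain ⟨x, hx⟩ := exists_ne (1 : G)
  apply hx
  rw [← mem_bot, ← hc, mem_center_iff]
  intro y
  exact hcon y x

theorem spr_psl2_aux (h4 : 4 ≤ Fintype.card F) (h5 : Fintype.card F ≠ 5) (h9 : Fintype.card F ≠ 9) :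
    Spr (Matrix.ProjectiveSpecialLinearGroup (Fin 2) F) := by
  obtain ⟨hsimp, hcen⟩ := Cyc.psl2_facts h4
  have hfin : Finite (Matrix.ProjectiveSpecialLinearGroup (Fin 2) F) := Quotient.finite _
  have hna := not_comm_of_center hcen
  by_cases h7 : Fintype.card F = 7
  · have hcard : Nat.card (Matrix.ProjectiveSpecialLinearGroup (Fin 2) F) = 168 := by
      have h1 := card_psl (F := F)
      rw [h7] at h1
      have h2 : Nat.gcd 2 (7 - 1) = 2 := rfl
      rw [h2] at h1
      omega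
    have : Fact (Nat.Prime 7) := ⟨by norm_num⟩
    obtain ⟨s, hs⟩ := exists_prime_orderOf_dvd_card' (G := Matrix.ProjectiveSpecialLinearGroup (Fin 2) F) 7
      (by rw [hcard]; norm_num)
    refine spr_of_norm hna (s := s) ?_ (fun M hM hM' => psl2_seven h7 hs hM hM')
    rintro rfl
    rw [orderOf_one] at hs
    omega
  · obtain ⟨H, -, ⟨e⟩⟩ := Cfsg.Agent.S0811.result (F := F) rfl (by
      simp only [Finset.mem_insert, Finset.mem_singleton, not_or]
      omega)
    have hs : orderOf ((e.symm (DihedralGroup.r 1) : H) : Matrix.ProjectiveSpecialLinearGroup (Fin 2) F) =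
        (Fintype.card F + 1) / Nat.gcd 2 (Fintype.card F - 1) := by
      rw [Subgroup.orderOf_coe, e.symm.orderOf_eq, DihedralGroup.orderOf_r_one]
    refine spr_of_norm hna ?_ (fun M hM hM' => psl2_one h4 h5 h7 h9 hs hM hM')
    intro h1
    rw [h1, orderOf_one] at hs
    have h2 : Nat.gcd 2 (Fintype.card F - 1) ≤ 2 := Nat.gcd_le_left _ (by norm_num)
    have h3 : 0 < Nat.gcd 2 (Fintype.card F - 1) := Nat.gcd_pos_of_pos_left _ (by norm_num)
    have h4' : 2 ≤ (Fintype.card F + 1) / Nat.gcd 2 (Fintype.card F - 1) := by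
      rw [Nat.le_div_iff_mul_le h3]
      omega
    omega

/-- **`PSL₂(q)`** -/
theorem spr_psl2 (h4 : 4 ≤ Fintype.card F) : Spr (Matrix.ProjectiveSpecialLinearGroup (Fin 2) F) := by
  by_cases h5 : Fintype.card F = 5
  · obtain ⟨e5⟩ := Cfsg.Agent.S0253.result h5
    have : Fintype (GaloisField 2 2) := Fintype.ofFinite _
    have hc4 : Fintype.card (GaloisField 2 2) = 4 := by
      rw [← Nat.card_eq_fintype_card, GaloisField.card 2 2 (by norm_num)]
      norm_num
    obtain ⟨e4⟩ := Cfsg.Agent.S0252.result hc4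
    exact Spr.congr (e4.trans e5.symm) (spr_psl2_aux (by omega) (by omega) (by omega))
  · by_cases h9 : Fintype.card F = 9
    · obtain ⟨e⟩ := Cfsg.Agent.S0254.result h9
      obtain ⟨hsimp, hcen⟩ := Cyc.psl2_facts h4
      obtain ⟨x, y, hxy⟩ := not_comm_of_center hcen
      refine Spr.congr e.symm (Cfsg.Agent.H424.SprAlt.spr_six ⟨e x, e y, fun h => hxy (e.injective ?_)⟩)
      rw [map_mul, map_mul, h]
    · exact spr_psl2_aux h4 h5 h9

end Cfsg.Agent.H947.Spr
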