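import Cfsg.Agent.H947.Spr.PsuRes

/-!
# 3/2-generation, `PSU₃(3)` and `PSU₃(5)` (helper947, for S3938): a transvection times a reflection
-/

set_option autoImplicit false
set_option linter.style.haveILetI false
set_option linter.unusedSectionVars false

namespace Cfsg.Agent.H947.Spr

open Subgroup Cfsg Cfsg.Geo Cfsg.Agent.H947.Sq Module Cfsg.Agent.H918 Cfsg.Agent.H907.Mx Cfsg.Agent.H947.El
open Cfsg.Agent.H424.Spr Cfsg.Agent.H947.Cyc Cfsg.Agent.H947.Cv
open Cfsg.Agent.LieClassical.HermSiegel Cfsg.Agent.LieClassical.HermBasic Cfsg.Agent.LieClassical.HermGen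
  Cfsg.Agent.ClassicalGeometry.PSUAutBasic Cfsg.Agent.ClassicalGeometry.PSUAutPhi
open scoped MatrixGroups Matrix Pointwise

section

variable {F : Type*} [Field F] [Fintype F] {q : ℕ}

/-- a reflection `t` and a transvection `u` -/
structure Sm (F : Type*) [Field F] [Fintype F] (q : ℕ) (t u : SU 3 F q) (z : Fˣ) (μ : F) (e w : Fin 3 → F) : Prop where
  hz : orderOf z = q + 1
  ee : hermForm 3 F q e e = 0
  ww : hermForm 3 F q w w = 1
  we : hermForm 3 F q w e = 0
  ew : hermForm 3 F q e w = 0
  e0 : e ≠ 0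
  dim : ∀ v : Fin 3 → F, hermForm 3 F q v e = 0 → hermForm 3 F q v w = 0 → ∃ c : F, v = c • e
  μ0 : μ ≠ 0
  actu : ∀ v : Fin 3 → F, act u v = v + (μ * hermForm 3 F q v e) • e
  actt : ∀ v : Fin 3 → F, hermForm 3 F q v w = 0 → act t v = (z : F) • v
  acttw : act t w = ((z⁻¹ : Fˣ) : F) ^ 2 • w
  oth : ∃ u' : SU 3 F q, act u' w = w ∧ ∀ c : F, act u' e ≠ c • e

theorem exists_Sm (hF : Fintype.card F = q ^ 2) : ∃ (t u : SU 3 F q) (z : Fˣ) (μ : F) (e w : Fin 3 → F),
    Sm F q t u z μ e w := by
  obtain ⟨e, f, H⟩ := exists_frame (n := 3) hF (by omega)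
  have hq := two_le hF
  have he0 : e ≠ 0 := by
    rintro rfl
    have := H.ef
    simp [hermForm] at this
  set w : Fin 3 → F := Pi.single 0 1 with hw
  have hwm : w ∈ coordSub F 3 (3 - 2) := by
    intro i hi
    rw [hw, Pi.single_eq_of_ne]
    rintro rfl
    simp at hi
  have hvw : ∀ v : Fin 3 → F, hermForm 3 F q v w = v 0 := by
    intro v
    rw [hw, herm_single_right hF, one_pow, mul_one]
  have hww : hermForm 3 F q w w = 1 := by rw [hvw, hw, Pi.single_eq_same]
  have hwe : hermForm 3 F q w e = 0 := ((H.mem w).1 hwm).1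
  have hwf : hermForm 3 F q w f = 0 := ((H.mem w).1 hwm).2
  have hew : hermForm 3 F q e w = 0 := herm_eq_zero_swap hF hwe
  have hfe : hermForm 3 F q f e = 1 := by rw [herm_swap hF, H.ef, one_pow]
  obtain ⟨μ, hμ0, hμ⟩ := exists_trace_zero_ne hF
  have he : IsSiegel q e 0 μ := ⟨H.ee, herm_zero_left e, by rw [herm_zero_left, hμ, add_zero]⟩
  have hf : IsSiegel q f 0 μ := ⟨H.ff, herm_zero_left f, by rw [herm_zero_left, hμ, add_zero]⟩
  obtain ⟨z, hz⟩ := exists_zeta hF
  have hE : (![-2, 1, 1] : Fin 3 → ℤ) 0 + (![-2, 1, 1] : Fin 3 → ℤ) 1 + (![-2, 1, 1] : Fin 3 → ℤ) 2 = 0 := by decide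
  refine ⟨dg z hz ![-2, 1, 1] hE, siegel hF e 0 μ he, z, μ, e, w, hz, H.ee, hww, hwe, hew, he0, ?_, hμ0, ?_, ?_, ?_, ?_⟩
  · intro v h1 h2
    refine ⟨hermForm 3 F q v f, ?_⟩
    have h3 : v - hermForm 3 F q v f • e ∈ coordSub F 3 (3 - 2) := by
      rw [H.mem]
      constructor
      · rw [herm_sub_left, herm_smul_left, h1, H.ee]; ring
      · rw [herm_sub_left, herm_smul_left, H.ef]; ring
    have h4 : hermForm 3 F q (v - hermForm 3 F q v f • e) w = 0 := by
      rw [herm_sub_left, herm_smul_left, h2, hew]; ring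
    rw [hvw] at h4
    have h5 : v - hermForm 3 F q v f • e = 0 := by
      funext i
      by_cases hi : i = 0
      · rw [hi]; exact h4
      · refine h3 i ?_
        have : i.val ≠ 0 := fun h => hi (Fin.ext h)
        omega
    exact sub_eq_zero.1 h5
  · intro v
    rw [act_siegel, smul_zero, add_zero, herm_zero_right hF, sub_zero]
  · intro v hv
    rw [hvw] at hv
    funext i
    rw [act_dg, Pi.smul_apply, smul_eq_mul]
    fin_cases i
    · simp [hv]
    · simp
    · simp
  · funext i
    rw [act_dg, Pi.smul_apply, smul_eq_mul, hw]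
    fin_cases i
    · simp only [Fin.zero_eta, Matrix.cons_val_zero, Pi.single_eq_same, mul_one]
      rw [← Units.val_pow_eq_pow_val, ← zpow_natCast, inv_zpow', Nat.cast_ofNat]
    · simp
    · simp
  · refine ⟨siegel hF f 0 μ hf, ?_, ?_⟩
    · rw [act_siegel, smul_zero, add_zero, herm_zero_right hF, sub_zero, hwf, mul_zero, zero_smul, add_zero]
    · intro c hc
      rw [act_siegel, smul_zero, add_zero, herm_zero_right hF, sub_zero, H.ef, mul_one] at hc
      have h1 := congrArg (fun v => hermForm 3 F q v e) hc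
      simp only [herm_add_left, herm_smul_left, H.ee, hfe, mul_one, mul_zero, zero_add] at h1
      exact hμ0 h1

variable {t u : SU 3 F q} {z : Fˣ} {μ : F} {e w : Fin 3 → F}

theorem Sm.z_ne (S : Sm F q t u z μ e w) (hq : 3 ≤ q) : (z : F) ≠ ((z⁻¹ : Fˣ) : F) ^ 2 := by
  intro h
  have h1 : z = (z⁻¹) ^ 2 := Units.ext (by rw [Units.val_pow_eq_pow_val]; exact h)
  have h2 : z ^ 3 = 1 := by
    calc z ^ 3 = z * z ^ 2 := by rw [pow_succ']
      _ = (z⁻¹) ^ 2 * z ^ 2 := by rw [← h1]
      _ = 1 := by rw [inv_pow, inv_mul_cancel]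
  have h3 := Nat.le_of_dvd (by norm_num) (orderOf_dvd_of_pow_eq_one h2)
  rw [S.hz] at h3
  omega

/-- the action of `t` -/
theorem Sm.act_t (S : Sm F q t u z μ e w) (v : Fin 3 → F) :
    act t v = (z : F) • v + ((((z⁻¹ : Fˣ) : F) ^ 2 - z) * hermForm 3 F q v w) • w := by
  have h1 : hermForm 3 F q (v - hermForm 3 F q v w • w) w = 0 := by
    rw [herm_sub_left, herm_smul_left, S.ww, mul_one, sub_self]
  have h2 := S.actt _ h1
  rw [act_sub, act_smul, S.acttw, sub_eq_iff_eq_add] at h2
  rw [h2, smul_sub, smul_smul, smul_smul]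
  rw [sub_mul, sub_smul, mul_comm (((z⁻¹ : Fˣ) : F) ^ 2)]
  abel

/-- an invariant subspace contains `e` or `w` -/
theorem Sm.inv (S : Sm F q t u z μ e w) (hq : 3 ≤ q) {W : Submodule F (Fin 3 → F)} (hW0 : W ≠ ⊥)
    (hW : ∀ v ∈ W, act (t * u) v ∈ W) : e ∈ W ∨ w ∈ W := by
  obtain ⟨v, hv, hv0⟩ := (Submodule.ne_bot_iff _).1 hW0
  have hz := S.z_ne hq
  have hact : ∀ v : Fin 3 → F, act (t * u) v = (z : F) • v + ((((z⁻¹ : Fˣ) : F) ^ 2 - z) * hermForm 3 F q v w) • w +
      (z * (μ * hermForm 3 F q v e)) • e := by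
    intro v
    rw [act_mul, S.actu, S.act_t, herm_add_left, herm_smul_left, S.ew, mul_zero, add_zero, smul_add, smul_smul]
    abel
  by_cases hvw : hermForm 3 F q v w = 0
  · -- `v` in the plane
    have h1 := Submodule.sub_mem _ (hW v hv) (Submodule.smul_mem W (z : F) hv)
    rw [hact, hvw, mul_zero, zero_smul, add_zero, add_sub_cancel_left] at h1
    by_cases hve : hermForm 3 F q v e = 0
    · obtain ⟨c, hc⟩ := S.dim v hve hvw
      have hc0 : c ≠ 0 := by
        rintro rfl
        rw [zero_smul] at hc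
        exact hv0 hc
      left
      rw [hc] at hv
      exact (Submodule.smul_mem_iff W hc0).1 hv
    · left
      exact (Submodule.smul_mem_iff W (mul_ne_zero z.ne_zero (mul_ne_zero S.μ0 hve))).1 h1
  · -- `σ v - z⁻² v`
    set c := ((z⁻¹ : Fˣ) : F) ^ 2 with hc
    set v1 : Fin 3 → F := act (t * u) v - c • v with hv1
    have hv1W : v1 ∈ W := Submodule.sub_mem _ (hW v hv) (Submodule.smul_mem W c hv)
    have hv1e : v1 = ((z : F) - c) • (v - hermForm 3 F q v w • w) + (z * (μ * hermForm 3 F q v e)) • e := by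
      rw [hv1, hact]
      module
    have hv1w : hermForm 3 F q v1 w = 0 := by
      rw [hv1e, herm_add_left, herm_smul_left, herm_smul_left, S.ew, herm_sub_left, herm_smul_left, S.ww]
      ring
    have h2 := Submodule.sub_mem _ (hW v1 hv1W) (Submodule.smul_mem W (z : F) hv1W)
    rw [hact, hv1w, mul_zero, zero_smul, add_zero, add_sub_cancel_left] at h2
    have hv1e' : hermForm 3 F q v1 e = ((z : F) - c) * hermForm 3 F q v e := by
      rw [hv1e, herm_add_left, herm_smul_left, herm_smul_left, S.ee, herm_sub_left, herm_smul_left, S.we]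
      ring
    by_cases hve : hermForm 3 F q v e = 0
    · -- `v = a w + κ e`
      have h3 : hermForm 3 F q (v - hermForm 3 F q v w • w) w = 0 := by
        rw [herm_sub_left, herm_smul_left, S.ww, mul_one, sub_self]
      have h4 : hermForm 3 F q (v - hermForm 3 F q v w • w) e = 0 := by
        rw [herm_sub_left, herm_smul_left, S.we, mul_zero, hve, sub_zero]
      obtain ⟨κ, hκ⟩ := S.dim _ h4 h3
      by_cases hκ0 : κ = 0
      · right
        rw [hκ0, zero_smul, sub_eq_zero] at hκ
        rw [hκ] at hv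
        exact (Submodule.smul_mem_iff W hvw).1 hv
      · left
        rw [hve, mul_zero, mul_zero, zero_smul, add_zero, hκ, smul_smul] at hv1e
        rw [hv1e] at hv1W
        exact (Submodule.smul_mem_iff W (mul_ne_zero (sub_ne_zero.2 hz) hκ0)).1 hv1W
    · left
      refine (Submodule.smul_mem_iff W (mul_ne_zero z.ne_zero (mul_ne_zero S.μ0 ?_))).1 h2
      rw [hv1e']
      exact mul_ne_zero (sub_ne_zero.2 hz) hve

theorem Sm.act_tu (S : Sm F q t u z μ e w) (v : Fin 3 → F) :
    act (t * u) v = (z : F) • v + ((((z⁻¹ : Fˣ) : F) ^ 2 - z) * hermForm 3 F q v w) • w +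
      (z * (μ * hermForm 3 F q v e)) • e := by
  rw [act_mul, S.actu, S.act_t, herm_add_left, herm_smul_left, S.ew, mul_zero, add_zero, smul_add, smul_smul]
  abel

theorem Sm.comm (S : Sm F q t u z μ e w) : Commute t u := by
  apply ext_act
  intro v
  rw [S.act_tu, act_mul, S.actu, S.act_t, herm_add_left, herm_smul_left, herm_smul_left, S.we]
  rw [mul_zero, add_zero, mul_left_comm μ]

theorem Sm.u_pow (S : Sm F q t u z μ e w) (k : ℕ) (v : Fin 3 → F) :
    act (u ^ k) v = v + ((k : F) * (μ * hermForm 3 F q v e)) • e := by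
  induction k with
  | zero => rw [pow_zero, act_one, Nat.cast_zero, zero_mul, zero_smul, add_zero]
  | succ k ih =>
    rw [pow_succ', act_mul, ih, S.actu, herm_add_left, herm_smul_left, S.ee, mul_zero, add_zero, add_assoc, ← add_smul]
    congr 2
    push_cast
    ring

theorem Sm.t_pow (S : Sm F q t u z μ e w) (k : ℕ) (v : Fin 3 → F) :
    act (t ^ k) v = ((z : F) ^ k) • v + (((((z⁻¹ : Fˣ) : F) ^ 2) ^ k - (z : F) ^ k) * hermForm 3 F q v w) • w := by
  induction k with
  | zero => rw [pow_zero, act_one, pow_zero, pow_zero, one_smul, sub_self, zero_mul, zero_smul, add_zero]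
  | succ k ih =>
    rw [pow_succ', act_mul, ih, S.act_t, herm_add_left, herm_smul_left, herm_smul_left, S.ww]
    rw [smul_add, smul_smul, smul_smul, add_assoc, ← add_smul, ← pow_succ']
    congr 2
    rw [pow_succ _ k, pow_succ _ k]
    ring

theorem Sm.t_pow_eq_one (S : Sm F q t u z μ e w) : t ^ (q + 1) = 1 := by
  apply ext_act
  intro v
  have h1 : (z : F) ^ (q + 1) = 1 := by
    rw [← Units.val_pow_eq_pow_val, ← S.hz, pow_orderOf_eq_one, Units.val_one]
  have h2 : (((z⁻¹ : Fˣ) : F) ^ 2) ^ (q + 1) = 1 := by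
    rw [← pow_mul, mul_comm, pow_mul, ← Units.val_pow_eq_pow_val, inv_pow, ← S.hz, pow_orderOf_eq_one, inv_one,
      Units.val_one, one_pow]
  rw [S.t_pow, h1, h2, one_smul, sub_self, zero_mul, zero_smul, add_zero, act_one]

theorem Sm.u_pow_eq_one (S : Sm F q t u z μ e w) [CharP F q] : u ^ q = 1 := by
  apply ext_act
  intro v
  rw [S.u_pow, CharP.cast_eq_zero, zero_mul, zero_smul, add_zero, act_one]

theorem Sm.tu_pow (S : Sm F q t u z μ e w) [CharP F q] : (t * u) ^ (q + 1) = u := by
  rw [S.comm.mul_pow, S.t_pow_eq_one, one_mul, pow_succ, S.u_pow_eq_one, one_mul]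

/-- `u` is not a scalar -/
theorem Sm.u_scalar (S : Sm F q t u z μ e w) (hF : Fintype.card F = q ^ 2) : suHom 3 F q u ∉ scalars (Fin 3) F := by
  intro h
  obtain ⟨c, hc⟩ := (mem_scalars_iff _).1 h
  have h1 : ∀ v : Fin 3 → F, act u v = (c : F) • v := by
    intro v
    rw [← suHom_mulVec, hc, Matrix.smul_mulVec, Matrix.one_mulVec]
  have h2 := h1 w
  rw [S.actu, S.we, mul_zero, zero_smul, add_zero] at h2
  have hw0 : w ≠ 0 := by
    rintro rfl
    have := S.ww
    rw [herm_zero_left] at this
    exact zero_ne_one this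
  have hc1 : (c : F) = 1 := by
    have h3 : (1 - (c : F)) • w = 0 := by rw [sub_smul, one_smul, ← h2, sub_self]
    exact (sub_eq_zero.1 ((smul_eq_zero.1 h3).resolve_right hw0)).symm
  obtain ⟨v, hv⟩ := exists_herm_ne_zero hF S.e0
  have hv' : hermForm 3 F q v e ≠ 0 := fun h => hv (herm_eq_zero_swap hF h)
  have h3 := h1 v
  rw [S.actu, hc1, one_smul] at h3
  have h4 : (μ * hermForm 3 F q v e) • e = 0 := by
    have := sub_eq_zero.2 h3
    rwa [add_sub_cancel_left] at this
  rcases smul_eq_zero.1 h4 with h5 | h5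
  · exact mul_ne_zero S.μ0 hv' h5
  · exact S.e0 h5

/-- no decomposition into orthogonal lines -/
theorem Sm.no_dec (S : Sm F q t u z μ e w) (hF : Fintype.card F = q ^ 2) (h2 : (2 : F) ≠ 0)
    {D : Fin 3 → Submodule F (Fin 3 → F)} (hD : IsNondegenerateMDecomposition (hermForm 3 F q) 1 D)
    (hx : suHom 3 F q u ∈ decompositionStabilizer D) : False := by
  obtain ⟨σ, hσ⟩ := hx
  have hmap : ∀ i, ∀ v ∈ D i, act u v ∈ D (σ i) := by
    intro i v hv
    rw [← hσ i]
    exact ⟨v, hv, rfl⟩
  -- a generator of `D i` is orthogonal to `e`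
  have key : ∀ i, ∀ v ∈ D i, hermForm 3 F q v e = 0 := by
    intro i v hv
    by_contra hve
    have hv0 : v ≠ 0 := by
      rintro rfl
      exact hve (herm_zero_left e)
    obtain ⟨d, hd0, hd⟩ := finrank_eq_one_iff'.1 (hD.decomp.finrank_eq i)
    have hvv : hermForm 3 F q v v ≠ 0 := by
      intro h
      obtain ⟨⟨x, hx, hxv⟩, -⟩ := hD.nondegenerate i v hv hv0
      obtain ⟨a, ha⟩ := hd ⟨v, hv⟩
      obtain ⟨b, hb⟩ := hd ⟨x, hx⟩
      have ha' : a • (d : Fin 3 → F) = v := congrArg Subtype.val ha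
      have hb' : b • (d : Fin 3 → F) = x := congrArg Subtype.val hb
      have ha0 : a ≠ 0 := by
        rintro rfl
        rw [zero_smul] at ha'
        exact hv0 ha'.symm
      apply hxv
      have h3 : x = (b * a⁻¹) • v := by
        rw [← ha', ← hb', smul_smul, mul_assoc, inv_mul_cancel₀ ha0, mul_one]
      rw [h3, herm_smul_left, h, mul_zero]
    have hev : hermForm 3 F q e v ≠ 0 := fun h => hve (herm_eq_zero_swap hF h)
    have hu1 := hmap i v hv
    have hu2 := hmap _ _ hu1
    rw [← act_mul, ← pow_two, S.u_pow] at hu2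
    rw [S.actu] at hu1
    by_cases h3 : σ i = i
    · -- an eigenvector
      rw [h3] at hu1
      have h4 := Submodule.sub_mem _ hu1 hv
      rw [add_sub_cancel_left] at h4
      have h5 : e ∈ D i := (Submodule.smul_mem_iff _ (mul_ne_zero S.μ0 hve)).1 h4
      obtain ⟨⟨x, hx, hxe⟩, -⟩ := hD.nondegenerate i e h5 S.e0
      obtain ⟨a, ha⟩ := hd ⟨e, h5⟩
      obtain ⟨b, hb⟩ := hd ⟨x, hx⟩
      have ha' : a • (d : Fin 3 → F) = e := congrArg Subtype.val ha
      have hb' : b • (d : Fin 3 → F) = x := congrArg Subtype.val hb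
      have ha0 : a ≠ 0 := by
        rintro rfl
        rw [zero_smul] at ha'
        exact S.e0 ha'.symm
      apply hxe
      have h6 : x = (b * a⁻¹) • e := by
        rw [← ha', ← hb', smul_smul, mul_assoc, inv_mul_cancel₀ ha0, mul_one]
      rw [h6, herm_smul_left, S.ee, mul_zero]
    · have h4 := hD.orthogonal _ _ h3 _ hu1 _ hv
      rw [herm_add_left, herm_smul_left] at h4
      by_cases h5 : σ (σ i) = i
      · rw [h5] at hu2
        have h6 := Submodule.sub_mem _ hu2 hv
        rw [add_sub_cancel_left] at h6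
        have h7 : e ∈ D i := (Submodule.smul_mem_iff _ (mul_ne_zero (by exact_mod_cast h2) (mul_ne_zero S.μ0 hve))).1 h6
        have h8 := Submodule.add_mem _ hv (Submodule.smul_mem _ (μ * hermForm 3 F q v e) h7)
        have h9 := hD.orthogonal _ _ h3 _ hu1 _ h8
        rw [← S.actu, herm_act] at h9
        exact hvv h9
      · have h6 := hD.orthogonal _ _ h5 _ hu2 _ hv
        rw [herm_add_left, herm_smul_left] at h6
        have h7 : μ * hermForm 3 F q v e * hermForm 3 F q e v = 0 := by
          push_cast at h6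
          linear_combination h6 - h4
        rw [h7, add_zero] at h4
        exact hvv h4
  have hall : ∀ v : Fin 3 → F, hermForm 3 F q v e = 0 := by
    intro v
    have hv : v ∈ iSup D := by rw [hD.decomp.iSup_eq_top]; trivial
    induction hv using Submodule.iSup_induction' with
    | mem i v hv => exact key i v hv
    | zero => exact herm_zero_left e
    | add a b _ _ ha hb => rw [herm_add_left, ha, hb, add_zero]
  obtain ⟨v, hv⟩ := exists_herm_ne_zero hF S.e0
  exact hv (herm_eq_zero_swap hF (hall v))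

/-- the preimage of a subgroup of `PSU₃(q)` in `GL₃` -/
def HM (q : ℕ) (F : Type*) [Field F] [Fintype F] (M : Subgroup (PSU 3 F q)) : Subgroup (GL (Fin 3) F) :=
  (M.comap (QuotientGroup.mk' (Subgroup.center (Cfsg.SU 3 F q)))).map (suHom 3 F q)

theorem suHom_mem_HM {M : Subgroup (PSU 3 F q)} {s : SU 3 F q} :
    suHom 3 F q s ∈ HM q F M ↔ (QuotientGroup.mk' (Subgroup.center (Cfsg.SU 3 F q)) s) ∈ M := by
  constructor
  · rintro ⟨s', hs', h⟩
    rw [← suHom_injective h]
    exact hs'
  · intro h
    exact ⟨s, h, rfl⟩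

/-- eigenvectors which are singular -/
theorem Sm.eigen (S : Sm F q t u z μ e w) (hF : Fintype.card F = q ^ 2) (hq : 3 ≤ q) {v : Fin 3 → F} (hv0 : v ≠ 0)
    (hvv : hermForm 3 F q v v = 0) {W : Submodule F (Fin 3 → F)} (hWv : W = Submodule.span F {v})
    (hW : ∀ v ∈ W, act (t * u) v ∈ W) : W = Submodule.span F {e} := by
  have hW0 : W ≠ ⊥ := by
    rw [hWv, Ne, Submodule.span_singleton_eq_bot]
    exact hv0
  rcases S.inv hq hW0 hW with h | h
  · rw [hWv, Submodule.mem_span_singleton] at h
    obtain ⟨c, hc⟩ := h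
    have hc0 : c ≠ 0 := by
      rintro rfl
      rw [zero_smul] at hc
      exact S.e0 hc.symm
    rw [hWv, ← hc, Submodule.span_singleton_smul_eq (IsUnit.mk0 c hc0)]
  · exfalso
    rw [hWv, Submodule.mem_span_singleton] at h
    obtain ⟨c, hc⟩ := h
    have := S.ww
    rw [← hc, herm_smul_left, herm_smul_right, hvv, mul_zero, mul_zero] at this
    exact zero_ne_one this

/-- **the maximal subgroups containing `t u`** -/
theorem Sm.cases (S : Sm F q t u z μ e w) (hF : Fintype.card F = q ^ 2) (hq : q = 3 ∨ q = 5) [CharP F q]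
    {M : Subgroup (PSU 3 F q)} (hM : IsCoatom M)
    (hs : QuotientGroup.mk' (Subgroup.center (Cfsg.SU 3 F q)) (t * u) ∈ M) :
    HM q F M = subspaceStabilizer (Submodule.span F {e}) ⊓ SUg 3 F q ∨
      HM q F M = subspaceStabilizer (Submodule.span F {w}) ⊓ SUg 3 F q := by
  have hq3 : 3 ≤ q := by omega
  have hfin : Finite (PSU 3 F q) := Quotient.finite _
  have h2 : (2 : F) ≠ 0 := by
    intro h
    have h3 : ((2 : ℕ) : F) = 0 := by exact_mod_cast h
    rw [CharP.cast_eq_zero_iff F q] at h3
    have := Nat.le_of_dvd (by norm_num) h3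
    omega
  have hH : IsMaximalIn (SUg 3 F q) (HM q F M) := by
    have := isMaximalIn_of_coatom (QuotientGroup.mk' (Subgroup.center (Cfsg.SU 3 F q)))
      (QuotientGroup.mk'_surjective _) (suHom 3 F q) suHom_injective hM
    rwa [range_suHom] at this
  have hxH : suHom 3 F q (t * u) ∈ HM q F M := suHom_mem_HM.2 hs
  have huH : suHom 3 F q u ∈ HM q F M := by
    rw [← S.tu_pow, map_pow]
    exact pow_mem hxH _
  have hinv : ∀ W : Submodule F (Fin 3 → F), HM q F M = subspaceStabilizer W ⊓ SUg 3 F q →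
      ∀ v ∈ W, act (t * u) v ∈ W := by
    intro W he v hv
    rw [he] at hxH
    exact (hxH.1 v).1 hv
  have hsub : ∀ (F₀ : Subfield F) (l : ℕ), 3 ≤ l → Fintype.card F = Nat.card F₀ ^ l → False := by
    intro F₀ l hl hc
    obtain ⟨s, hs⟩ : ∃ s, Nat.card F₀ = s := ⟨_, rfl⟩
    rw [hs, hF] at hc
    have hqp : q.Prime := by rcases hq with rfl | rfl <;> norm_num
    have h5 : s ∣ q ^ 2 := by rw [hc]; exact dvd_pow_self s (by omega)
    obtain ⟨k, hk2, hk⟩ := (Nat.dvd_prime_pow hqp).1 h5
    rw [hk, ← pow_mul] at hc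
    have h6 := Nat.pow_right_injective hqp.two_le hc
    have h7 : k ≠ 0 := by rintro rfl; omega
    have h8 : 1 * 3 ≤ k * l := Nat.mul_le_mul (by omega) hl
    have h9 : 2 = k * l := h6
    omega
  rcases Cfsg.Agent.S5778.result q hF hq3 (HM q F M) hH with ⟨W, hW0, hWs, he⟩ | ⟨W, hW0, hWn, hW3, he⟩ |
    ⟨-, D, hD, he⟩ | ⟨h3, h5, K, hK, hKa, he⟩ | ⟨F₀, l, P, hl, hlo, hc, -, he⟩ | ⟨-, h7, F₀, P, hc, -, he⟩ |
    ⟨p', R, hp', h1, -, h11, -, hirr, -, h27, h3, he⟩ | hres
  · -- totally singular
    left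
    have heW : e ∈ W := by
      rcases S.inv hq3 hW0 (hinv W he) with h | h
      · exact h
      · exfalso
        have := hWs w h w h
        rw [S.ww] at this
        exact one_ne_zero this
    have hWe : W = Submodule.span F {e} := by
      apply le_antisymm
      · intro v hv
        have h1 := hWs v hv e heW
        have h3 : hermForm 3 F q (v - hermForm 3 F q v w • w) w = 0 := by
          rw [herm_sub_left, herm_smul_left, S.ww, mul_one, sub_self]
        have h4 : hermForm 3 F q (v - hermForm 3 F q v w • w) e = 0 := by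
          rw [herm_sub_left, herm_smul_left, S.we, mul_zero, h1, sub_zero]
        obtain ⟨κ, hκ⟩ := S.dim _ h4 h3
        have h5 : v = hermForm 3 F q v w • w + κ • e := by
          rw [← hκ]; abel
        have h6 := hWs v hv v hv
        obtain ⟨a, ha⟩ : ∃ a, hermForm 3 F q v w = a := ⟨_, rfl⟩
        rw [ha] at h5
        rw [h5, herm_add_left, herm_add_right hF, herm_add_right hF, herm_smul_left, herm_smul_left, herm_smul_left,
          herm_smul_left, herm_smul_right, herm_smul_right, herm_smul_right, herm_smul_right, S.ww, S.we, S.ew,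
          S.ee] at h6
        simp only [mul_zero, add_zero, mul_one] at h6
        have ha0 : a = 0 := (norm_eq_zero hF).1 h6
        rw [h5, ha0, zero_smul, zero_add]
        exact Submodule.smul_mem _ _ (Submodule.mem_span_singleton_self e)
      · rw [Submodule.span_singleton_le_iff_mem]
        exact heW
    rw [← hWe]
    exact he
  · -- nondegenerate
    right
    have h1 : finrank F W = 1 := by
      have : finrank F W ≠ 0 := by rw [Ne, Submodule.finrank_eq_zero]; exact hW0
      omega
    obtain ⟨d, hd0, hd⟩ := finrank_eq_one_iff'.1 h1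
    have hwW : w ∈ W := by
      rcases S.inv hq3 hW0 (hinv W he) with h | h
      · exfalso
        obtain ⟨⟨x, hx, hxe⟩, -⟩ := hWn e h S.e0
        obtain ⟨a, ha⟩ := hd ⟨e, h⟩
        obtain ⟨b, hb⟩ := hd ⟨x, hx⟩
        have ha' : a • (d : Fin 3 → F) = e := congrArg Subtype.val ha
        have hb' : b • (d : Fin 3 → F) = x := congrArg Subtype.val hb
        have ha0 : a ≠ 0 := by
          rintro rfl
          rw [zero_smul] at ha'
          exact S.e0 ha'.symm
        apply hxe
        have h6 : x = (b * a⁻¹) • e := by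
          rw [← ha', ← hb', smul_smul, mul_assoc, inv_mul_cancel₀ ha0, mul_one]
        rw [h6, herm_smul_left, S.ee, mul_zero]
      · exact h
    have hw0 : w ≠ 0 := by
      rintro rfl
      have := S.ww
      rw [herm_zero_left] at this
      exact zero_ne_one this
    have hWw : Submodule.span F {w} = W := by
      apply Submodule.eq_of_le_of_finrank_eq
      · rw [Submodule.span_singleton_le_iff_mem]
        exact hwW
      · rw [h1, finrank_span_singleton hw0]
    rw [hWw]
    exact he
  · exfalso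
    rw [he] at huH
    exact S.no_dec hF h2 hD huH.1
  · exfalso
    rcases hq with h | h
    · exact h3 h
    · exact h5 h
  · exfalso
    have : 3 ≤ l := by
      have := hl.two_le
      obtain ⟨j, hj⟩ := hlo
      omega
    exact hsub F₀ l this hc
  · omega
  · omega
  · -- the residual class
    exfalso
    obtain ⟨P, hP, hqp, hcases⟩ := Cfsg.Agent.S5779.result q hF hq3 _ hH hres
    let φ : (Fin 3 → F) →ₗ[F] F :=
      { toFun := fun v => hermForm 3 F q v e
        map_add' := fun a b => herm_add_left a b e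
        map_smul' := fun c a => by simp only [herm_smul_left, RingHom.id_apply, smul_eq_mul] }
    have hφ : ∀ v : Fin 3 → F, φ v = 0 → ((suHom 3 F q u : GL (Fin 3) F) : Matrix (Fin 3) (Fin 3) F) *ᵥ v = v := by
      intro v hv
      have hv' : hermForm 3 F q v e = 0 := hv
      rw [suHom_mulVec, S.actu, hv', mul_zero, zero_smul, add_zero]
    rcases hq with rfl | rfl
    · rcases hcases with ⟨⟨ε⟩, -, -⟩ | ⟨-, h | h | h⟩ | ⟨-, h⟩
      · refine no_l32 hP ε hxH ?_ ?_ ?_
        · rw [← map_pow, show (12 : ℕ) = (3 + 1) * 3 by norm_num, pow_mul, S.tu_pow, S.u_pow_eq_one, map_one]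
        · rw [← map_pow, S.tu_pow]
          exact S.u_scalar hF
        · intro h
          rw [← map_pow] at h
          obtain ⟨c, hc⟩ := (mem_scalars_iff _).1 h
          have h1 : ∀ v : Fin 3 → F, act ((t * u) ^ 6) v = (c : F) • v := by
            intro v
            rw [← suHom_mulVec, hc, Matrix.smul_mulVec, Matrix.one_mulVec]
          have h6 : (t * u) ^ 6 = t ^ 2 := by
            have h7 : t ^ 4 = 1 := S.t_pow_eq_one
            have h8 : u ^ 3 = 1 := S.u_pow_eq_one
            rw [S.comm.mul_pow, show (6 : ℕ) = 4 + 2 by norm_num, pow_add t, h7, one_mul,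
              show (4 + 2 : ℕ) = 3 * 2 by norm_num, pow_mul u, h8, one_pow, mul_one]
          rw [h6] at h1
          have hw0 : w ≠ 0 := by
            rintro rfl
            have := S.ww
            rw [herm_zero_left] at this
            exact zero_ne_one this
          have h7 := h1 e
          have h8 := h1 w
          rw [S.t_pow, S.ew, mul_zero, zero_smul, add_zero] at h7
          rw [S.t_pow, S.ww, mul_one, ← add_smul, add_sub_cancel] at h8
          have h9 : (z : F) ^ 2 = c := by
            have := sub_eq_zero.2 h7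
            rw [← sub_smul] at this
            exact sub_eq_zero.1 ((smul_eq_zero.1 this).resolve_right S.e0)
          have h10 : (((z⁻¹ : Fˣ) : F) ^ 2) ^ 2 = c := by
            have := sub_eq_zero.2 h8
            rw [← sub_smul] at this
            exact sub_eq_zero.1 ((smul_eq_zero.1 this).resolve_right hw0)
          have h11 : z ^ 4 = 1 := by
            have : 4 = 3 + 1 := rfl
            rw [this, ← S.hz, pow_orderOf_eq_one]
          have h12 : (((z⁻¹ : Fˣ) : F) ^ 2) ^ 2 = 1 := by
            rw [← pow_mul, ← Units.val_pow_eq_pow_val, inv_pow, show 2 * 2 = 4 from rfl, h11, inv_one, Units.val_one]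
          have h13 : z ^ 2 = 1 := by
            apply Units.ext
            rw [Units.val_pow_eq_pow_val, h9, ← h10, h12, Units.val_one]
          have h14 := Nat.le_of_dvd (by norm_num) (orderOf_dvd_of_pow_eq_one h13)
          rw [S.hz] at h14
          omega
      · omega
      · omega
      · omega
      · omega
    · have hu5 : (suHom 3 F 5 u : GL (Fin 3) F) ^ 5 = 1 := by
        rw [← map_pow, S.u_pow_eq_one, map_one]
      rcases hcases with ⟨-, h, -⟩ | ⟨⟨ε⟩, -⟩ | ⟨⟨ε⟩, -⟩
      · exact h rfl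
      · exact no_alt hP (Or.inl rfl) ε huH (S.u_scalar hF) hu5 hφ
      · exact no_alt hP (Or.inr rfl) ε huH (S.u_scalar hF) hu5 hφ

/-- **`PSU₃(3)` and `PSU₃(5)`** -/
theorem spr_psu3_small (hF : Fintype.card F = q ^ 2) (hq : q = 3 ∨ q = 5) : Spr (PSU 3 F q) := by
  have hq3 : 3 ≤ q := by omega
  obtain ⟨hsimp, hcen⟩ := psu3_facts hF hq3
  have hfin : Finite (PSU 3 F q) := Quotient.finite _
  have hchar : CharP F q := by
    obtain ⟨p, hc⟩ := CharP.exists F
    have hp : p.Prime := CharP.char_is_prime F p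
    obtain ⟨n, -, hn⟩ := FiniteField.card F p
    have hqp : q.Prime := by rcases hq with rfl | rfl <;> norm_num
    have h1 : p ∣ q ^ 2 := by rw [← hF, hn]; exact dvd_pow_self p n.pos.ne'
    have h2 := (Nat.prime_dvd_prime_iff_eq hp hqp).1 (hp.dvd_of_dvd_pow h1)
    rwa [← h2]
  have hna : ∃ x y : PSU 3 F q, x * y ≠ y * x := by
    by_contra hcon
    push Not at hcon
    obtain ⟨x, hx⟩ := exists_ne (1 : PSU 3 F q)
    apply hx
    rw [← mem_bot, ← hcen, mem_center_iff]
    intro y
    exact hcon y x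
  obtain ⟨t, u, z, μ, e, w, S⟩ := exists_Sm hF
  set π := QuotientGroup.mk' (Subgroup.center (Cfsg.SU 3 F q)) with hπ
  have hπs : Function.Surjective π := QuotientGroup.mk'_surjective _
  by_cases hA : ∃ M₁ : Subgroup (PSU 3 F q), IsCoatom M₁ ∧ π (t * u) ∈ M₁ ∧
      HM q F M₁ = subspaceStabilizer (Submodule.span F {e}) ⊓ SUg 3 F q
  swap
  · refine spr_of_unique hna (s := π (t * u)) fun M M' hM hM' hs hs' => ?_
    rcases S.cases hF hq hM hs with h | h
    · exact absurd ⟨M, hM, hs, h⟩ hA
    · rcases S.cases hF hq hM' hs' with h' | h'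
      · exact absurd ⟨M', hM', hs', h'⟩ hA
      · exact eq_of_map_eq (h.trans h'.symm)
  by_cases hB : ∃ M₂ : Subgroup (PSU 3 F q), IsCoatom M₂ ∧ π (t * u) ∈ M₂ ∧
      HM q F M₂ = subspaceStabilizer (Submodule.span F {w}) ⊓ SUg 3 F q
  swap
  · refine spr_of_unique hna (s := π (t * u)) fun M M' hM hM' hs hs' => ?_
    rcases S.cases hF hq hM hs with h | h
    · rcases S.cases hF hq hM' hs' with h' | h'
      · exact eq_of_map_eq (h.trans h'.symm)
      · exact absurd ⟨M', hM', hs', h'⟩ hB
    · exact absurd ⟨M, hM, hs, h⟩ hB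
  obtain ⟨M₁, hM₁, hs₁, he₁⟩ := hA
  obtain ⟨M₂, hM₂, hs₂, he₂⟩ := hB
  have hne : M₁ ≠ M₂ := by
    intro h
    rw [h, he₂] at he₁
    obtain ⟨u', hu'w, hu'e⟩ := S.oth
    have h1 : suHom 3 F q u' ∈ subspaceStabilizer (Submodule.span F {w}) ⊓ SUg 3 F q := by
      refine ⟨fun v => ?_, suHom_mem _⟩
      have hinv : act u'⁻¹ w = w := by
        rw [← hu'w, act_inv_act, hu'w]
      constructor
      · intro hv
        obtain ⟨c, rfl⟩ := Submodule.mem_span_singleton.1 hv
        show act u' (c • w) ∈ Submodule.span F {w}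
        rw [act_smul, hu'w]
        exact Submodule.smul_mem _ _ (Submodule.mem_span_singleton_self w)
      · intro hv
        obtain ⟨c, hc⟩ := Submodule.mem_span_singleton.1 hv
        have hc' : c • w = act u' v := hc
        show v ∈ Submodule.span F {w}
        rw [← act_inv_act u' v, ← hc', act_smul, hinv]
        exact Submodule.smul_mem _ _ (Submodule.mem_span_singleton_self w)
    rw [he₁] at h1
    have h2 := (h1.1 e).1 (Submodule.mem_span_singleton_self e)
    obtain ⟨c, hc⟩ := Submodule.mem_span_singleton.1 h2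
    exact hu'e c hc.symm
  refine spr_of_two hna hM₁ hM₂ (s := π (t * u)) (fun y hy => ?_) (fun K hK hK' => ?_)
  · obtain ⟨g, rfl⟩ := hπs y
    have h1 : π (g⁻¹ * (t * u) * g) ∈ M₁ := by
      have h2 := hs₂
      rw [← hy] at h2
      obtain ⟨x, hx, hxe⟩ := h2
      have h3 : π g * x * (π g)⁻¹ = π (t * u) := hxe
      rw [map_mul, map_mul, map_inv, ← h3]
      have : (π g)⁻¹ * (π g * x * (π g)⁻¹) * π g = x := by group
      rw [this]
      exact hx
    have h2 : suHom 3 F q (g⁻¹ * (t * u) * g) ∈ HM q F M₁ := suHom_mem_HM.2 h1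
    rw [he₁] at h2
    have hge0 : act g e ≠ 0 := fun h => S.e0 ((act_eq_zero g).1 h)
    have hgee : hermForm 3 F q (act g e) (act g e) = 0 := by rw [herm_act, S.ee]
    have h3 : Submodule.span F {act g e} = Submodule.span F {e} := by
      refine S.eigen hF hq3 hge0 hgee rfl (fun v hv => ?_)
      obtain ⟨c, rfl⟩ := Submodule.mem_span_singleton.1 hv
      have h4 := (h2.1 e).1 (Submodule.mem_span_singleton_self e)
      obtain ⟨a, ha⟩ := Submodule.mem_span_singleton.1 h4
      have ha' : a • e = act (g⁻¹ * (t * u) * g) e := ha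
      have h5 : act (t * u) (act g e) = a • act g e := by
        rw [← act_smul, ha', ← act_mul, ← act_mul]
        congr 1
        group
      rw [act_smul, h5]
      exact Submodule.smul_mem _ _ (Submodule.smul_mem _ _ (Submodule.mem_span_singleton_self _))
    have h4 : suHom 3 F q g ∈ HM q F M₁ := by
      rw [he₁]
      refine ⟨fun v => ?_, suHom_mem _⟩
      have h6 : ∃ c : F, c • act g e = e := Submodule.mem_span_singleton.1 (h3 ▸ Submodule.mem_span_singleton_self e)
      have h7 : ∃ c : F, c • e = act g e := Submodule.mem_span_singleton.1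
        (h3 ▸ Submodule.mem_span_singleton_self (act g e))
      constructor
      · intro hv
        obtain ⟨c, rfl⟩ := Submodule.mem_span_singleton.1 hv
        obtain ⟨b, hb⟩ := h7
        show act g (c • e) ∈ Submodule.span F {e}
        rw [act_smul, ← hb]
        exact Submodule.smul_mem _ _ (Submodule.smul_mem _ _ (Submodule.mem_span_singleton_self e))
      · intro hv
        obtain ⟨c, hc⟩ := Submodule.mem_span_singleton.1 hv
        obtain ⟨b, hb⟩ := h6
        have hc' : c • e = act g v := hc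
        show v ∈ Submodule.span F {e}
        rw [← hb, smul_smul, ← act_smul] at hc'
        rw [← act_injective g hc']
        exact Submodule.smul_mem _ _ (Submodule.mem_span_singleton_self e)
    have h5 : π g ∈ M₁ := suHom_mem_HM.1 h4
    apply hne
    rw [← hy]
    exact (c_smul_self h5).symm
  · obtain ⟨N, hN, hKN⟩ := (eq_top_or_exists_le_coatom K).resolve_left hK'
    rcases S.cases hF hq hN (hKN hK) with h | h
    · left
      rw [← eq_of_map_eq (h.trans he₁.symm)]
      exact hKN
    · right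
      rw [← eq_of_map_eq (h.trans he₂.symm)]
      exact hKN

end

/-- **`PSU₃(q)`** -/
theorem spr_psu3 {F : Type*} [Field F] [Fintype F] {q : ℕ} (hF : Fintype.card F = q ^ 2) (hq : 3 ≤ q) :
    Spr (PSU 3 F q) := by
  by_cases h : q = 3 ∨ q = 5
  · exact spr_psu3_small hF h
  · exact spr_psu3_aux hF (by omega) (by omega)

end Cfsg.Agent.H947.Spr
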