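import Cfsg.Agent.H424.Spr.Core
import Cfsg.Agent.H947.Cyc.Sz
import Cfsg.Agent.S2238
import Cfsg.Agent.S0331

/-!
# 3/2-generation, rank one (helper947, for S3938): the Suzuki groups
-/

set_option autoImplicit false
set_option linter.style.haveILetI false

namespace Cfsg.Agent.H947.Spr

open MulAction Subgroup Cfsg Cfsg.Agent.H396 Cfsg.Agent.H394.SqBasic Cfsg.Agent.H947.El Cfsg.Agent.H424.Spr
open Cfsg.Agent.H101.SzAbs Cfsg.Agent.H101.SzGeo Cfsg.Agent.H101.SzAbs.Geo Cfsg.Agent.H101.SzSub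

universe u

/-- an element normalising a cyclic subgroup normalises its subgroups -/
theorem mem_normalizer_zpowers {G : Type*} [Group G] [Finite G] {U : Subgroup G} (hU : IsCyclic U) {x u : G}
    (hx : x ∈ Subgroup.normalizer (U : Set G)) (hu : u ∈ U) :
    x ∈ Subgroup.normalizer ((zpowers u : Subgroup G) : Set G) := by
  obtain ⟨k, hk⟩ := hU.exists_zpow_surjective
  obtain ⟨a, ha⟩ := hk (⟨x * k * x⁻¹, (Subgroup.mem_normalizer_iff.1 hx k).1 k.2⟩ : U)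
  have ha' : (k : G) ^ a = x * k * x⁻¹ := congrArg Subtype.val ha
  refine Subgroup.mem_normalizer_fintype (fun n hn => ?_)
  obtain ⟨b, hb⟩ := hk (⟨u, hu⟩ : U)
  have hb' : (k : G) ^ b = u := congrArg Subtype.val hb
  obtain ⟨c, hc⟩ := mem_zpowers_iff.1 hn
  refine mem_zpowers_iff.2 ⟨c * a, ?_⟩
  rw [← hc, ← hb']
  have h1 : x * ((k : G) ^ b) ^ c * x⁻¹ = (x * k * x⁻¹) ^ (b * c) := by
    rw [← zpow_mul, conj_zpow]
  rw [h1, ← ha', ← zpow_mul, ← zpow_mul]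
  congr 1
  ring

/-- an element of prime order normalising a cyclic subgroup whose order it divides -/
theorem mem_of_normalizer {G : Type*} [Group G] [Finite G] {ρ : ℕ} [hρ : Fact ρ.Prime]
    (hcyc : ∀ P : Sylow ρ G, IsCyclic P) {U : Subgroup G} (hU : IsCyclic U) (hd : ρ ∣ Nat.card U) {x : G}
    (hx : x ∈ Subgroup.normalizer (U : Set G)) (hxo : orderOf x = ρ) : x ∈ U := by
  obtain ⟨u, hu⟩ := exists_prime_orderOf_dvd_card' (G := U) ρ hd
  have huo : orderOf (u : G) = ρ := by rw [Subgroup.orderOf_coe, hu]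
  have hn : zpowers x ≤ Subgroup.normalizer ((zpowers (u : G) : Subgroup G) : Set G) := by
    rw [zpowers_le]
    exact mem_normalizer_zpowers hU hx u.2
  have h1 : IsPGroup ρ (zpowers x) := IsPGroup.of_card (n := 1) (by rw [Nat.card_zpowers, hxo, pow_one])
  have h2 : IsPGroup ρ (zpowers (u : G)) := IsPGroup.of_card (n := 1) (by rw [Nat.card_zpowers, huo, pow_one])
  obtain ⟨P, hP⟩ := (IsPGroup.to_sup_of_normal_right' h1 h2 hn).exists_le_sylow
  have h3 := Cyc.mem_zpowers_of_cyclic (hcyc P) (hP (mem_sup_right (mem_zpowers _))) (hP (mem_sup_left (mem_zpowers x)))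
    huo hxo
  exact (zpowers_le.2 u.2) h3

variable {F : Type*} [Field F] [Fintype F] {m : ℕ}

/-- **the Suzuki groups**: an element of primitive prime order lies in one maximal subgroup -/
theorem sz_one (hm : 1 ≤ m) (hF : Fintype.card F = 2 ^ (2 * m + 1)) {ρ : ℕ} (hρ : ρ.Prime)
    (hρ1 : ∀ n, ρ ∣ 2 ^ n - 1 ↔ 4 * (2 * m + 1) ∣ n) (hρ3 : ¬ ρ ∣ 2) {x : Cfsg.Sz F m} (hxo : orderOf x = ρ) :
    ∃ U : Subgroup (Cfsg.Sz F m), x ∈ U ∧ Nat.card U < Nat.card (Cfsg.Sz F m) ∧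
      ∀ M : Subgroup (Cfsg.Sz F m), x ∈ M → M ≠ ⊤ → M ≤ Subgroup.normalizer (U : Set (Cfsg.Sz F m)) := by
  obtain ⟨q, r, hq, hr, h8, h2q, h2r, hrq, hrr⟩ := num_sz m hm
  have hfin : Finite (Cfsg.Sz F m) := inferInstance
  have hcardG := Cfsg.Agent.S0324.result hm hF
  rw [← hq] at hcardG
  have hρq1 : ¬ ρ ∣ q - 1 := by
    intro h
    rw [hq] at h
    have := (hρ1 _).1 h
    have := Nat.le_of_dvd (by omega) this
    omega
  have hρodd : ρ ≠ 2 := by rintro rfl; exact hρ3 dvd_rfl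
  have : Fact ρ.Prime := ⟨hρ⟩
  have hx1 : x ≠ 1 := by
    rintro rfl
    rw [orderOf_one] at hxo
    exact hρ.one_lt.ne hxo
  have hcyc : ∀ P : Sylow ρ (Cfsg.Sz F m), IsCyclic P := fun P => Cfsg.Agent.S0331.result hm hF hρodd P
  obtain ⟨U, ⟨hU, hxU⟩, huniq⟩ := Cfsg.Agent.S2238.result hm hF x hx1
  have hUc : Nat.card U ∈ ({2 ^ (2 * m + 1) - 1, 2 ^ (2 * m + 1) + 2 ^ (m + 1) + 1,
      2 ^ (2 * m + 1) - 2 ^ (m + 1) + 1} : Set ℕ) := by
    rcases hU with ⟨P, rfl⟩ | ⟨-, h⟩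
    · exfalso
      have h1 : IsPGroup 2 P := P.isPGroup'
      obtain ⟨k, hk⟩ := (IsPGroup.iff_orderOf.1 h1) ⟨x, hxU⟩
      rw [Subgroup.orderOf_mk, hxo] at hk
      exact hρodd ((Nat.prime_dvd_prime_iff_eq hρ Nat.prime_two).1 (hρ.dvd_of_dvd_pow (dvd_of_eq hk)))
    · exact h
  refine ⟨U, hxU, ?_, fun M hxM hM => ?_⟩
  · rw [hcardG]
    rw [← hq, ← hr] at hUc
    have h1 : Nat.card U ≤ 2 * q := by
      rcases hUc with h | h | h
      · omega
      · omega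
      · rw [Set.mem_singleton_iff] at h
        omega
    have h2 : 2 * q < q ^ 2 * (q ^ 2 + 1) * (q - 1) := by
      have h3 : 2 * q ≤ q ^ 2 := by nlinarith
      have h4 : q ^ 2 * 1 < q ^ 2 * (q ^ 2 + 1) := by
        apply Nat.mul_lt_mul_of_pos_left
        · nlinarith
        · positivity
      have h5 : q ^ 2 * (q ^ 2 + 1) * 1 ≤ q ^ 2 * (q ^ 2 + 1) * (q - 1) := Nat.mul_le_mul_left _ (by omega)
      omega
    omega
  rcases Cfsg.Agent.S2251.result hm hF M hM with ⟨P0, hP0⟩ | ⟨U', hUc', hUk, hU'⟩ | ⟨K, _, _, k, hk1, hkm, hK, hdiv, S, ⟨e⟩, hS⟩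
  · -- `M ≤ N(P)`
    exfalso
    obtain ⟨S, hSP, -⟩ := exists_sylow hm hF (inf F m)
    obtain ⟨g, hg⟩ := exists_smul_eq (Cfsg.Sz F m) P0 S
    have hy : g * (x : Cfsg.Sz F m) * g⁻¹ ∈ Subgroup.normalizer ((S : Subgroup (Cfsg.Sz F m)) : Set (Cfsg.Sz F m)) := by
      rw [← hg, Sylow.coe_subgroup_smul]
      exact conj_mem_normalizer_map g (hP0 hxM)
    rw [hSP] at hy
    have hSne : (S : Subgroup (Cfsg.Sz F m)) ≠ ⊥ := by
      refine S.ne_bot_of_dvd_card ?_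
      rw [hcardG]
      exact ((h2q.pow (by norm_num)).mul_right _).mul_right _
    obtain ⟨t, ht⟩ := Subgroup.ne_bot_iff_exists_ne_one.1 hSne
    have ht1 : (t : Cfsg.Sz F m) ≠ 1 := fun h => ht (Subtype.ext h)
    have htP : (t : Cfsg.Sz F m) ∈ P hF (inf F m) := by rw [← hSP]; exact t.2
    set y := g * (x : Cfsg.Sz F m) * g⁻¹ with hyd
    have h1 := (Subgroup.mem_normalizer_iff.1 hy t).1 htP
    have h2 := conj_mem_P hm hF y _ _ htP
    have hne : y * t * y⁻¹ ≠ 1 := by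
      intro h
      apply ht1
      calc (t : Cfsg.Sz F m) = y⁻¹ * (y * t * y⁻¹) * y := by group
        _ = 1 := by rw [h]; group
    have h3 := (geo hm hF).free (inf F m) (y • inf F m) _ h1 ((geo hm hF).le _ _ h2) hne
    have h4 : y ∈ MulAction.stabilizer (Cfsg.Sz F m) (Cfsg.suzukiPointInfinity F) := congrArg Subtype.val h3
    have h5 := Subgroup.orderOf_dvd_natCard _ h4
    rw [Cfsg.Agent.S0329.result hm hF, ← hq] at h5
    have h6 : orderOf y = ρ := by rw [hyd, ← MulAut.conj_apply, MulEquiv.orderOf_eq, hxo]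
    rw [h6] at h5
    rcases hρ.dvd_mul.1 h5 with h7 | h7
    · have h8 := hρ.dvd_of_dvd_pow h7
      rw [hq] at h8
      exact hρodd ((Nat.prime_dvd_prime_iff_eq hρ Nat.prime_two).1 (hρ.dvd_of_dvd_pow h8))
    · exact hρq1 h7
  · -- `M ≤ N(U)`
    have h1 := sz_normalizer hm hF U' hUc' hUk x (hU' hxM) (by rw [hxo]; exact hρ) (by rw [hxo]; exact hρodd)
    rw [hxo] at h1
    have h2 := mem_of_normalizer hcyc hUc' h1 (hU' hxM) hxo
    have h3 := huniq U' ⟨Or.inr ⟨hUc', hUk⟩, h2⟩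
    rwa [h3] at hU'
  · -- a smaller Suzuki group
    exfalso
    have h1 : ρ ∣ Nat.card S := by
      rw [← hxo]
      exact Subgroup.orderOf_dvd_natCard _ (hS hxM)
    rw [Nat.card_congr e.toEquiv, Cfsg.Agent.S0324.result hk1 hK] at h1
    obtain ⟨w, hw⟩ : ∃ w, w = 2 ^ (2 * k + 1) := ⟨_, rfl⟩
    rw [← hw] at h1
    have h2 : ρ ∣ w ^ 4 - 1 := by
      have e2 : w ^ 4 - 1 = (w ^ 2 + 1) * ((w - 1) * (w + 1)) := by
        have h3 : (w ^ 2) ^ 2 - 1 ^ 2 = (w ^ 2 + 1) * (w ^ 2 - 1) := Nat.sq_sub_sq _ _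
        have h4 : w ^ 2 - 1 ^ 2 = (w + 1) * (w - 1) := Nat.sq_sub_sq _ _
        rw [one_pow] at h3 h4
        rw [h4, mul_comm (w + 1)] at h3
        rw [← h3, ← pow_mul]
      rw [e2]
      rcases hρ.dvd_mul.1 h1 with h3 | h3
      · rcases hρ.dvd_mul.1 h3 with h4 | h4
        · have h5 := hρ.dvd_of_dvd_pow h4
          rw [hw] at h5
          exact absurd ((Nat.prime_dvd_prime_iff_eq hρ Nat.prime_two).1 (hρ.dvd_of_dvd_pow h5)) hρodd
        · exact h4.mul_right _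
      · exact (h3.mul_right _).mul_left _
    rw [hw, ← pow_mul] at h2
    have h3 := (hρ1 _).1 h2
    have := Nat.le_of_dvd (by omega) h3
    omega

/-- **Row** -/
theorem row_Suzuki {L : Type u} [Group L] [Finite L] [hs : IsSimpleGroup L] (hna : ∃ x y : L, x * y ≠ y * x)
    (h : Cfsg.Lie.IsoSuzuki L) : Spr L := by
  obtain ⟨F, iF, iF', m, hm, hF, ⟨e⟩⟩ := h
  obtain ⟨f⟩ := Cfsg.Agent.OddCyclic.ClaimC.SzIso.iso hm hF
  have e' : Cfsg.Sz F m ≃* L := f.trans e.symm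
  have hfin : Finite (Cfsg.Sz F m) := inferInstance
  have hsimp : IsSimpleGroup (Cfsg.Sz F m) := e'.isSimpleGroup
  have hna' : ∃ x y : Cfsg.Sz F m, x * y ≠ y * x := by
    obtain ⟨x, y, hxy⟩ := hna
    refine ⟨e'.symm x, e'.symm y, fun h => hxy ?_⟩
    rw [← map_mul, ← map_mul] at h
    exact e'.symm.injective h
  refine Spr.congr e' ?_
  obtain ⟨ρ, hρ, hρ1, hρ2, hρ3⟩ := Cfsg.Agent.Lib.Zsigmondy.exists_primitive (a := 2) (n := 4 * (2 * m + 1)) le_rfl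
    (by omega) (by omega) (by omega)
  have hρq : ρ ∣ (2 ^ (2 * m + 1)) ^ 2 + 1 := by
    have h1 : ρ ∣ (2 ^ (2 * m + 1)) ^ 4 - 1 := by
      rw [← pow_mul]
      exact (hρ1 _).2 (by rw [mul_comm])
    have h2 : (2 ^ (2 * m + 1)) ^ 4 - 1 = ((2 ^ (2 * m + 1)) ^ 2 + 1) * ((2 ^ (2 * m + 1)) ^ 2 - 1) := by
      generalize 2 ^ (2 * m + 1) = q
      have : (q ^ 2) ^ 2 - 1 ^ 2 = (q ^ 2 + 1) * (q ^ 2 - 1) := Nat.sq_sub_sq _ _
      rw [← this, ← pow_mul, one_pow]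
    rw [h2] at h1
    refine (hρ.dvd_mul.1 h1).resolve_right fun h => ?_
    rw [← pow_mul] at h
    have := (hρ1 _).1 h
    have := Nat.le_of_dvd (by omega) this
    omega
  have : Fact ρ.Prime := ⟨hρ⟩
  obtain ⟨x, hxo⟩ := exists_prime_orderOf_dvd_card' (G := Cfsg.Sz F m) ρ (by
    rw [Cfsg.Agent.S0324.result hm hF]
    exact (hρq.mul_left _).mul_right _)
  obtain ⟨U, hxU, hUc, hU⟩ := sz_one hm hF hρ hρ1 hρ3 hxo
  refine spr_of_one hna' (s := x) (M := Subgroup.normalizer (U : Set (Cfsg.Sz F m))) (fun ht => ?_)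
    (fun K hK hK' => hU K hK hK')
  have hn : U.Normal := Subgroup.normalizer_eq_top_iff.1 ht
  rcases hn.eq_bot_or_eq_top with h1 | h1
  · rw [h1, mem_bot] at hxU
    rw [hxU, orderOf_one] at hxo
    exact hρ.one_lt.ne hxo
  · rw [h1, Subgroup.card_top] at hUc
    exact lt_irrefl _ hUc

end Cfsg.Agent.H947.Spr
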