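import Cfsg.Agent.H424.Spr.Core
import Cfsg.Agent.H947.Cv.Ree

/-!
# 3/2-generation, rank one (helper947, for S3938): the small Ree groups
-/

set_option autoImplicit false
set_option linter.style.haveILetI false

namespace Cfsg.Agent.H947.Spr

open MulAction Subgroup Cfsg Cfsg.Agent.H396 Cfsg.Agent.H394.SqBasic Cfsg.Agent.H947.El Cfsg.Agent.H424.Spr
open Cfsg.Agent.H947.Cv

universe u

section

variable {R : Type*} [Group R] [Finite R] {m q r ρ : ℕ}

omit [Finite R] in
/-- elements of order `l` centralise no element of order `3` -/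
theorem reeF_not_comm_three (h : ReeF R m q r) (n : ReeN m q r ρ) {l : ℕ} (L : PrL q l) {x e : R}
    (hx : orderOf x = l) (he : orderOf e = 3) : x * e ≠ e * x := by
  intro hc
  have hbig := L.big
  have hco : Nat.Coprime (orderOf x) (orderOf e) := by
    rw [hx, he, Nat.coprime_primes L.pr Nat.prime_three]
    omega
  have h1 := (show Commute x e from hc).orderOf_mul_eq_mul_orderOf_of_coprime hco
  rw [hx, he] at h1
  have hld : l ∣ orderOf (x * e) := h1 ▸ dvd_mul_right _ _
  have hed : 3 ∣ orderOf (x * e) := h1 ▸ dvd_mul_left _ _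
  have h27 := n.q27
  have hrq := n.rq
  have hq3 := n.q3
  have hr3 := n.r3
  rcases h.ord (x * e) with h2 | h2 | h2 | h2 | h2 | h2
  · have h3 : l ∣ 2 * 3 := hld.trans h2
    rcases L.pr.dvd_mul.1 h3 with h4 | h4
    · have := Nat.le_of_dvd (by norm_num) h4; omega
    · have := Nat.le_of_dvd (by norm_num) h4; omega
  · have h3 : l ∣ 3 := L.pr.dvd_of_dvd_pow (n := 2) (by norm_num; exact hld.trans h2)
    have := Nat.le_of_dvd (by norm_num) h3; omega
  · have h3 := hed.trans h2
    omega
  · have h3 := (hed.trans h2).trans (Nat.div_dvd_of_dvd (by have := n.q4; omega))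
    omega
  · have h3 := hed.trans h2
    omega
  · have h3 := hed.trans h2
    omega

/-- the centraliser of an element of order `l` -/
theorem reeF_cent (h : ReeF R m q r) (n : ReeN m q r ρ) {l : ℕ} (L : PrL q l) {E : Subgroup R} (hE : Nat.card E = l) :
    IsCyclic (Subgroup.centralizer (E : Set R)) ∧
      Nat.card (Subgroup.normalizer (E : Set R)) = 6 * Nat.card (Subgroup.centralizer (E : Set R)) := by
  have hfl : Fact l.Prime := ⟨L.pr⟩
  have hbig := L.big
  obtain ⟨A, hAc, hEA, hA⟩ := h.norm l L.pr L.big E hE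
  have hlA : l ∣ Nat.card A := hE ▸ Subgroup.card_dvd_of_le hEA
  have hA6 : Nat.card (Subgroup.normalizer (E : Set R)) = 6 * Nat.card A := by
    rcases hA with ⟨hA1, hA2⟩ | ⟨hA1, hA2⟩ | ⟨hA1, hA2⟩
    · exact absurd (hA1 ▸ hlA.mul_left 2) L.nq1
    · exact absurd (hA1 ▸ hlA.mul_left 4) L.nqp
    · exact hA2
  have hcomm : ∀ x ∈ A, ∀ y ∈ A, x * y = y * x := by
    intro x hx y hy
    have := hAc.commGroup.mul_comm (⟨x, hx⟩ : A) ⟨y, hy⟩
    exact congrArg Subtype.val this
  have hAC : A ≤ Subgroup.centralizer (E : Set R) := by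
    intro a ha
    rw [mem_centralizer_iff]
    intro e he
    exact hcomm e (hEA he) a ha
  obtain ⟨e, he⟩ := exists_prime_orderOf_dvd_card' (G := E) l (by rw [hE])
  have heo : orderOf (e : R) = l := by rw [Subgroup.orderOf_coe, he]
  have hn2 : ∀ p : ℕ, p = 2 ∨ p = 3 → ¬ p ∣ Nat.card (Subgroup.centralizer (E : Set R)) := by
    intro p hp hd
    have hpp : p.Prime := by rcases hp with rfl | rfl <;> norm_num
    have : Fact p.Prime := ⟨hpp⟩
    obtain ⟨z, hz⟩ := exists_prime_orderOf_dvd_card' (G := Subgroup.centralizer (E : Set R)) p hd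
    have hzo : orderOf (z : R) = p := by rw [Subgroup.orderOf_coe, hz]
    have hc : (e : R) * z = z * e := mem_centralizer_iff.1 z.2 e e.2
    rcases hp with rfl | rfl
    · exact reeF_not_comm_l h n L heo hzo hc
    · exact reeF_not_comm_three h n L heo hzo hc
  have h6 : Nat.Coprime (Nat.card (Subgroup.centralizer (E : Set R))) 6 := by
    rw [show 6 = 2 * 3 by norm_num]
    exact Nat.Coprime.mul_right ((Nat.prime_two.coprime_iff_not_dvd.2 (hn2 2 (Or.inl rfl))).symm)
      ((Nat.prime_three.coprime_iff_not_dvd.2 (hn2 3 (Or.inr rfl))).symm)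
  have hCN : Nat.card (Subgroup.centralizer (E : Set R)) ∣ Nat.card A := by
    have h1 : Nat.card (Subgroup.centralizer (E : Set R)) ∣ 6 * Nat.card A :=
      hA6 ▸ Subgroup.card_dvd_of_le (Subgroup.centralizer_le_normalizer _)
    exact h6.dvd_of_dvd_mul_left h1
  have hAe : A = Subgroup.centralizer (E : Set R) :=
    Subgroup.eq_of_le_of_card_ge hAC (Nat.le_of_dvd Nat.card_pos hCN)
  rw [← hAe]
  exact ⟨hAc, hA6⟩

/-- an element of prime order `ρ` lies in one maximal subgroup -/
theorem reeF_one (h : ReeF R m q r) (n : ReeN m q r ρ) {x : R} (hxo : orderOf x = ρ) {M : Subgroup R} (hxM : x ∈ M)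
    (hM : M ≠ ⊤) : M ≤ Subgroup.normalizer ((Subgroup.centralizer ((zpowers x : Subgroup R) : Set R) : Subgroup R) : Set R) := by
  have hfρ : Fact ρ.Prime := ⟨n.pr⟩
  have h19 := n.q19
  have hρM : ρ ∣ Nat.card M := hxo ▸ Subgroup.orderOf_dvd_natCard _ hxM
  have hnt : Nontrivial M := by
    rw [← Finite.one_lt_card_iff_nontrivial]
    have := Nat.le_of_dvd Nat.card_pos hρM
    omega
  by_contra hcon
  apply hM
  refine ree_top_of h n M hnt ?_ ?_
  · intro p hp E hE hE1 hEe hn
    have : Fact p.Prime := ⟨hp⟩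
    have hntE : Nontrivial E := (Subgroup.nontrivial_iff_ne_bot E).2 hE1
    have hcE : 1 < Nat.card E := Finite.one_lt_card
    rcases Nat.lt_or_ge 3 p with h3p | hp3
    · have hcyc := h.cyc p hp h3p E hE
      have hEp : Nat.card E = p := by
        have h1 : Monoid.exponent E ∣ p := by
          rw [Monoid.exponent_dvd_iff_forall_pow_eq_one]
          intro y
          exact Subtype.ext (hEe y y.2)
        rw [IsCyclic.exponent_eq_card] at h1
        rcases (Nat.dvd_prime hp).1 h1 with h2 | h2
        · omega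
        · exact h2
      have hρN : ρ ∣ Nat.card (Subgroup.normalizer (E : Set R)) :=
        hρM.trans (Subgroup.card_dvd_of_le hn)
      obtain ⟨A, hAc, hEA, hA⟩ := h.norm p hp h3p E hEp
      have hpA : p ∣ Nat.card A := hEp ▸ Subgroup.card_dvd_of_le hEA
      have hpd : p ∣ q ^ 2 - q + 1 := by
        rcases hA with ⟨hA1, hA2⟩ | ⟨hA1, hA2⟩ | ⟨hA1, hA2⟩
        · exfalso
          rw [hA2, show 4 * Nat.card A = 2 * (2 * Nat.card A) by ring, hA1] at hρN
          rcases n.pr.dvd_mul.1 hρN with h1 | h1
          · have := Nat.le_of_dvd (by norm_num) h1; omega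
          · exact n.nq1 h1
        · exfalso
          rw [hA2, show 24 * Nat.card A = 6 * (4 * Nat.card A) by ring, hA1] at hρN
          rcases n.pr.dvd_mul.1 hρN with h1 | h1
          · have := Nat.le_of_dvd (by norm_num) h1; omega
          · exact n.nqp h1
        · rw [n.fac]
          rcases hA1 with hA1 | hA1
          · rw [hA1] at hpA; exact hpA.mul_right _
          · rw [hA1] at hpA; exact hpA.mul_left _
      have Lp := prL n hp hpd
      have Lρ := prL n n.pr n.dvd
      obtain ⟨hC1, hC2⟩ := reeF_cent h n Lp hEp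
      obtain ⟨hD1, hD2⟩ := reeF_cent h n Lρ (E := zpowers x) (by rw [Nat.card_zpowers, hxo])
      -- `x ∈ C(E)`
      have hxC : x ∈ Subgroup.centralizer (E : Set R) := by
        set W := Subgroup.normalizer (E : Set R) with hW
        set C' := (Subgroup.centralizer (E : Set R)).subgroupOf W with hC'
        have hCn : C'.Normal := by
          refine ⟨fun c hc w => ?_⟩
          rw [hC', mem_subgroupOf] at hc ⊢
          rw [mem_centralizer_iff] at hc ⊢
          intro y hy
          have hw := (Subgroup.mem_normalizer_iff''.1 w.2 y).1 hy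
          have h1 := hc _ hw
          show y * ((w : R) * c * (w : R)⁻¹) = ((w : R) * c * (w : R)⁻¹) * y
          calc y * ((w : R) * c * (w : R)⁻¹) = w * (((w : R)⁻¹ * y * w) * c) * (w : R)⁻¹ := by group
            _ = w * (c * ((w : R)⁻¹ * y * w)) * (w : R)⁻¹ := by rw [h1]
            _ = _ := by group
        have hidx : C'.index = 6 := by
          have h1 := C'.card_mul_index
          have h2 : Nat.card C' = Nat.card (Subgroup.centralizer (E : Set R)) :=
            Nat.card_congr (Subgroup.subgroupOfEquivOfLe (Subgroup.centralizer_le_normalizer _)).toEquiv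
          rw [h2, hC2, mul_comm 6] at h1
          exact Nat.eq_of_mul_eq_mul_left Nat.card_pos h1
        have hxW : x ∈ W := hn hxM
        have h6 := C'.pow_index_mem (⟨x, hxW⟩ : W)
        rw [hidx, hC', mem_subgroupOf] at h6
        have h6' : x ^ 6 ∈ Subgroup.centralizer (E : Set R) := h6
        have hco : Nat.Coprime 6 (orderOf x) := by
          rw [hxo, Nat.coprime_comm, n.pr.coprime_iff_not_dvd]
          intro hd
          have := Nat.le_of_dvd (by norm_num) hd
          omega
        obtain ⟨j, hj⟩ := exists_pow_eq_self_of_coprime hco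
        rw [← hj]
        exact pow_mem h6' _
      have hAA : ∀ {B : Subgroup R}, IsCyclic B → ∀ a ∈ B, ∀ b ∈ B, a * b = b * a := by
        intro B hB a ha b hb
        have := hB.commGroup.mul_comm (⟨a, ha⟩ : B) ⟨b, hb⟩
        exact congrArg Subtype.val this
      have hEC : E ≤ Subgroup.centralizer (E : Set R) := by
        intro a ha
        rw [mem_centralizer_iff]
        intro b hb
        exact hAA hcyc b hb a ha
      -- `C(E) ≤ C(x)`
      have hle1 : Subgroup.centralizer (E : Set R) ≤ Subgroup.centralizer ((zpowers x : Subgroup R) : Set R) := by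
        intro a ha
        rw [mem_centralizer_iff]
        intro b hb
        have hb' : b ∈ Subgroup.centralizer (E : Set R) := (zpowers_le.2 hxC) hb
        exact hAA hC1 b hb' a ha
      have hle2 : Subgroup.centralizer ((zpowers x : Subgroup R) : Set R) ≤ Subgroup.centralizer (E : Set R) := by
        intro a ha
        rw [mem_centralizer_iff]
        intro b hb
        exact hAA hD1 b (hle1 (hEC hb)) a ha
      have heq := le_antisymm hle1 hle2
      apply hcon
      refine hn.trans ?_
      rw [← heq]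
      intro w hw
      refine Subgroup.mem_normalizer_fintype (fun c hc => ?_)
      have hc' : c ∈ Subgroup.centralizer (E : Set R) := hc
      show w * c * w⁻¹ ∈ Subgroup.centralizer (E : Set R)
      rw [mem_centralizer_iff] at hc' ⊢
      intro y hy
      have h1 := hc' _ ((Subgroup.mem_normalizer_iff''.1 hw y).1 hy)
      calc y * (w * c * w⁻¹) = w * ((w⁻¹ * y * w) * c) * w⁻¹ := by group
        _ = w * (c * (w⁻¹ * y * w)) * w⁻¹ := by rw [h1]
        _ = _ := by group
    · have hp23 : p = 2 ∨ p = 3 := by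
        have := hp.two_le
        omega
      have h1 := h.card_sub_one n hxo hp23 hE (hn hxM)
      obtain ⟨a, ha⟩ := (IsPGroup.iff_card).1 hE
      have ha0 : 0 < a := by
        rcases Nat.eq_zero_or_pos a with rfl | ha0
        · rw [pow_zero] at ha; omega
        · exact ha0
      have hm := h.hm
      rcases hp23 with rfl | rfl
      · have := (h.pow_two_le n hE).1
        have := Nat.le_of_dvd (by omega) h1
        omega
      · rw [ha] at h1
        have h2 := Nat.le_of_dvd ha0 ((n.iff a).1 h1)
        have h3 : 3 ^ a ∣ q ^ 3 * (q - 1) * (q ^ 3 + 1) := by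
          rw [← ha, ← h.card]; exact Subgroup.card_subgroup_dvd_card _
        have h27 := n.q27
        have h4 : Nat.Coprime (3 ^ a) (q - 1) := by
          apply Nat.Coprime.pow_left
          rw [Nat.prime_three.coprime_iff_not_dvd]
          have := n.q3
          omega
        have h5 : Nat.Coprime (3 ^ a) (q ^ 3 + 1) := by
          apply Nat.Coprime.pow_left
          rw [Nat.prime_three.coprime_iff_not_dvd]
          intro h6
          have h7 : 3 ∣ q ^ 3 := n.q3.pow (by norm_num)
          omega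
        have h6 := h4.dvd_of_dvd_mul_right (h5.dvd_of_dvd_mul_right h3)
        rw [h.hq, ← pow_mul] at h6
        have h7 := (Nat.pow_dvd_pow_iff_le_right (by norm_num)).1 h6
        omega
  · intro N hN hNs hNna h4N
    have hρN := h.dvd_of_simple n M hρM N h4N
    exact h.card_of_simple n (M.subtype.comp N.subtype) (M.subtype_injective.comp N.subtype_injective) hNs hNna hρN

end

/-- **Row** -/
theorem row_Ree {L : Type u} [Group L] [Finite L] [hs : IsSimpleGroup L] (hna : ∃ x y : L, x * y ≠ y * x)
    (h : Cfsg.Lie.IsoRee L) : Spr L := by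
  obtain ⟨K, iK, iK', m, hm, hK, ⟨e⟩⟩ := h
  obtain ⟨ρ, n⟩ := exists_reeN m hm
  have F := reeF hm hK n
  have hfin : Finite ↥(Cfsg.Lie.twistedG2 K (3 ^ m)) := inferInstance
  have hsimp : IsSimpleGroup ↥(Cfsg.Lie.twistedG2 K (3 ^ m)) := e.symm.isSimpleGroup
  have hna' : ∃ x y : ↥(Cfsg.Lie.twistedG2 K (3 ^ m)), x * y ≠ y * x := by
    obtain ⟨x, y, hxy⟩ := hna
    refine ⟨e x, e y, fun h => hxy ?_⟩
    rw [← map_mul, ← map_mul] at h
    exact e.injective h
  refine Spr.congr e.symm ?_
  have : Fact ρ.Prime := ⟨n.pr⟩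
  obtain ⟨x, hxo⟩ := exists_prime_orderOf_dvd_card' (G := ↥(Cfsg.Lie.twistedG2 K (3 ^ m))) ρ (by
    rw [F.card, n.cube]
    exact (n.dvd.mul_left _).mul_left _)
  refine spr_of_one hna' (s := x)
    (M := Subgroup.normalizer ((Subgroup.centralizer ((zpowers x : Subgroup ↥(Cfsg.Lie.twistedG2 K (3 ^ m))) :
      Set ↥(Cfsg.Lie.twistedG2 K (3 ^ m))) : Subgroup ↥(Cfsg.Lie.twistedG2 K (3 ^ m))) :
      Set ↥(Cfsg.Lie.twistedG2 K (3 ^ m))))
    (fun ht => ?_) (fun K hK hK' => reeF_one F n hxo hK hK')
  have hn := Subgroup.normalizer_eq_top_iff.1 ht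
  have hx1 : x ≠ 1 := by
    rintro rfl
    rw [orderOf_one] at hxo
    exact n.pr.one_lt.ne hxo
  obtain ⟨hC1, hC2⟩ := reeF_cent F n (prL n n.pr n.dvd) (E := zpowers x) (by rw [Nat.card_zpowers, hxo])
  have hxC : x ∈ Subgroup.centralizer ((zpowers x : Subgroup ↥(Cfsg.Lie.twistedG2 K (3 ^ m))) : Set _) := by
    rw [mem_centralizer_iff]
    intro y hy
    obtain ⟨k, rfl⟩ := mem_zpowers_iff.1 hy
    exact ((Commute.refl x).zpow_left k)
  rcases hn.eq_bot_or_eq_top with h1 | h1
  · rw [h1, mem_bot] at hxC
    exact hx1 hxC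
  · rw [h1] at hC1
    obtain ⟨a, b, hab⟩ := hna'
    apply hab
    have := hC1.commGroup.mul_comm (⟨a, mem_top a⟩ : (⊤ : Subgroup ↥(Cfsg.Lie.twistedG2 K (3 ^ m)))) ⟨b, mem_top b⟩
    exact congrArg Subtype.val this

end Cfsg.Agent.H947.Spr
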