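import Cfsg.Agent.H424.Spr.Core
import Cfsg.Agent.H947.Cv.Psu3

/-!
# 3/2-generation, rank one (helper947, for S3938): `PSU₃(q)`, `q ≥ 4`, `q ≠ 5`
-/

set_option autoImplicit false
set_option linter.style.haveILetI false
set_option linter.unusedSectionVars false

namespace Cfsg.Agent.H947.Spr

open Subgroup Cfsg Cfsg.Geo Cfsg.Agent.H947.Sq Module Cfsg.Agent.H918 Cfsg.Agent.H907.Mx Cfsg.Agent.H947.El
open Cfsg.Agent.H424.Spr Cfsg.Agent.H947.Cyc Cfsg.Agent.H947.Cv
open scoped MatrixGroups Matrix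

universe u

/-- an element in exactly one maximal subgroup -/
theorem spr_of_unique {L : Type*} [Group L] [Finite L] [IsSimpleGroup L] (hna : ∃ x y : L, x * y ≠ y * x) {s : L}
    (h : ∀ M M' : Subgroup L, IsCoatom M → IsCoatom M' → s ∈ M → s ∈ M' → M = M') : Spr L := by
  have h1 : zpowers s ≠ ⊤ := by
    intro ht
    obtain ⟨x, y, hxy⟩ := hna
    apply hxy
    have hx : x ∈ zpowers s := by rw [ht]; trivial
    have hy : y ∈ zpowers s := by rw [ht]; trivial
    obtain ⟨i, rfl⟩ := mem_zpowers_iff.1 hx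
    obtain ⟨j, rfl⟩ := mem_zpowers_iff.1 hy
    exact ((Commute.refl s).zpow_zpow i j)
  obtain ⟨M, hM, hsM⟩ := (eq_top_or_exists_le_coatom (zpowers s)).resolve_left h1
  refine spr_of_one hna (s := s) hM.1 fun K hK hK' => ?_
  obtain ⟨N, hN, hKN⟩ := (eq_top_or_exists_le_coatom K).resolve_left hK'
  rw [h M N hM hN (hsM (mem_zpowers s)) (hKN hK)]
  exact hKN

section

variable {F : Type*} [Field F] [Fintype F] {q : ℕ}

/-- an element of prime order `≥ 5` normalising a cubic field lies in it -/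
theorem mem_field {K : Subalgebra F (Matrix (Fin 3) (Fin 3) F)} (hK : IsFieldSubalgebra 3 K) {x : GL (Fin 3) F}
    (hx : x ∈ subalgebraNormalizer K) {r : ℕ} (hr : r.Prime) (hr5 : 5 ≤ r) (hxr : x ^ r = 1) :
    (x : Matrix (Fin 3) (Fin 3) F) ∈ K := by
  classical
  have hHK : zpowers x ≤ subalgebraNormalizer K := zpowers_le.2 hx
  have hN : Cfsg.Agent.H912.NormAlg (zpowers x) K := fun _ hh a ha => (hHK hh a).mp ha
  let _ : Field K := (Cfsg.Agent.H907.isField_of hK).toField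
  have hfd : Module.Finite F K := inferInstance
  have hKfin : Finite K := Module.finite_of_finite F
  have hgal : IsGalois F K := inferInstance
  let ψ : zpowers x →* (K ≃ₐ[F] K) := MonoidHom.mk' (fun h => Cfsg.Agent.H912.conjSub hN h) (by
    intro a b
    apply AlgEquiv.ext
    intro x
    apply Subtype.ext
    rw [AlgEquiv.mul_apply, Cfsg.Agent.H912.conjSub_coe, Cfsg.Agent.H912.conjSub_coe, Cfsg.Agent.H912.conjSub_coe,
      Subgroup.coe_mul, _root_.mul_inv_rev, Units.val_mul, Units.val_mul]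
    simp only [mul_assoc])
  have h4 : Nat.card (K ≃ₐ[F] K) = 3 := by
    rw [IsGalois.card_aut_eq_finrank, hK.finrank_eq]
  have h5 : ψ ⟨x, mem_zpowers x⟩ = 1 := by
    have h6 : (ψ ⟨x, mem_zpowers x⟩) ^ 3 = 1 := by
      have h6 := pow_card_eq_one' (x := ψ ⟨x, mem_zpowers x⟩)
      rwa [h4] at h6
    have h7 : (ψ ⟨x, mem_zpowers x⟩) ^ r = 1 := by
      rw [← map_pow]
      have : (⟨x, mem_zpowers x⟩ : zpowers x) ^ r = 1 := Subtype.ext hxr
      rw [this, map_one]
    have h8 : Nat.gcd 3 r = 1 := by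
      rw [← Nat.coprime_iff_gcd_eq_one, Nat.coprime_primes Nat.prime_three hr]
      omega
    have h9 := pow_gcd_eq_one.2 ⟨h6, h7⟩
    rwa [h8, pow_one] at h9
  apply mem_of_centralises hK
  intro k hk
  have h2 := Cfsg.Agent.H912.conjSub_coe hN ⟨x, mem_zpowers x⟩ ⟨k, hk⟩
  have h1 : Cfsg.Agent.H912.conjSub hN ⟨x, mem_zpowers x⟩ = 1 := h5
  rw [h1] at h2
  have h3 : k = (x : Matrix (Fin 3) (Fin 3) F) * k * ((x⁻¹ : GL (Fin 3) F) : Matrix (Fin 3) (Fin 3) F) := h2
  conv_rhs => rw [h3]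
  rw [mul_assoc _ _ (x : Matrix (Fin 3) (Fin 3) F), ← Units.val_mul, inv_mul_cancel, Units.val_one, mul_one]

/-- maximal subgroups with the torus elements -/
theorem tor_K (hF : Fintype.card F = q ^ 2) (hq : 4 ≤ q) (hq5 : q ≠ 5) {p n r : ℕ} (h : PN F p n q r)
    {M : Subgroup (PSU 3 F q)} (hM : IsCoatom M) (hrM : r ∣ Nat.card M) (h7 : r = 7 → 49 ∣ Nat.card M)
    {x : GL (Fin 3) F} (hxo : orderOf x = r)
    (hxH : x ∈ (M.comap (QuotientGroup.mk' (Subgroup.center (Cfsg.SU 3 F q)))).map (suHom 3 F q)) :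
    ∃ K : Subalgebra F (Matrix (Fin 3) (Fin 3) F), IsFieldSubalgebra 3 K ∧ (x : Matrix (Fin 3) (Fin 3) F) ∈ K ∧
      (M.comap (QuotientGroup.mk' (Subgroup.center (Cfsg.SU 3 F q)))).map (suHom 3 F q) =
        subalgebraNormalizer K ⊓ SUg 3 F q := by
  have hfin : Finite (PSU 3 F q) := Quotient.finite _
  have hge := h.ge
  have hn := h.n0
  have hfr : Fact r.Prime := ⟨h.pr⟩
  set π := QuotientGroup.mk' (Subgroup.center (Cfsg.SU 3 F q)) with hπ
  have hπs : Function.Surjective π := QuotientGroup.mk'_surjective _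
  set ι := suHom 3 F q with hι
  have hιi : Function.Injective ι := suHom_injective
  set H := (M.comap π).map ι with hHd
  have hH : IsMaximalIn (SUg 3 F q) H := by
    have := isMaximalIn_of_coatom π hπs ι hιi hM
    rwa [range_suHom] at this
  have hcH : Nat.card H = Nat.gcd 3 (q + 1) * Nat.card M := by
    rw [hHd, Subgroup.card_map_of_injective hιi, hπ, card_comap_pi hF]
  have hfinS : Finite (Cfsg.SU 3 F q) := inferInstance
  have hrH : r ∣ Nat.card H := by rw [hcH]; exact hrM.mul_left _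
  rcases geom_cases hF (by omega) h hH hxH (by rw [← hxo]; exact pow_orderOf_eq_one _)
    (by intro h1; rw [h1, orderOf_one] at hxo; exact h.pr.one_lt.ne hxo) with hres | ⟨hq3, hq5, K, hK, hKa, he⟩
  · exfalso
    obtain ⟨P, hP, hqp, hcases⟩ := Cfsg.Agent.S5779.result q hF (by omega) H hH hres
    have hHS : H ≤ SUg 3 F q := hH.1.le
    rcases hcases with ⟨⟨e⟩, -, -⟩ | ⟨⟨e⟩, -⟩ | ⟨-, h5⟩
    · have h1008 : Nat.card H ∣ 1008 := card_dvd_l32 hP hHS ⟨e⟩
      have h2 : r ∣ 2 ^ 4 * 3 ^ 2 * 7 := by norm_num; exact hrH.trans h1008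
      rcases h.pr.dvd_mul.1 h2 with h3 | h3
      · rcases h.pr.dvd_mul.1 h3 with h4 | h4
        · have := Nat.le_of_dvd (by norm_num) (h.pr.dvd_of_dvd_pow h4); omega
        · have := Nat.le_of_dvd (by norm_num) (h.pr.dvd_of_dvd_pow h4); omega
      · have h4 := h7 ((Nat.prime_dvd_prime_iff_eq h.pr (by norm_num)).1 h3)
        have h5 : 49 ∣ 1008 := (h4.mul_left _).trans (hcH ▸ h1008)
        revert h5; norm_num
    · have h4320 : Nat.card H ∣ 4320 := card_dvd_a6 hP hHS ⟨e⟩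
      have h2 : r ∣ 2 ^ 5 * 3 ^ 3 * 5 := by norm_num; exact hrH.trans h4320
      rcases h.pr.dvd_mul.1 h2 with h3 | h3
      · rcases h.pr.dvd_mul.1 h3 with h4 | h4
        · have := Nat.le_of_dvd (by norm_num) (h.pr.dvd_of_dvd_pow h4); omega
        · have := Nat.le_of_dvd (by norm_num) (h.pr.dvd_of_dvd_pow h4); omega
      · have := Nat.le_of_dvd (by norm_num) h3; omega
    · exact hq5 h5
  · refine ⟨K, hK, ?_, he⟩
    rw [he] at hxH
    exact mem_field hK hxH.1 h.pr (by omega) (by rw [← hxo]; exact pow_orderOf_eq_one _)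

/-- recovering `M` -/
theorem eq_of_map_eq {M M' : Subgroup (PSU 3 F q)}
    (h : (M.comap (QuotientGroup.mk' (Subgroup.center (Cfsg.SU 3 F q)))).map (suHom 3 F q) =
      (M'.comap (QuotientGroup.mk' (Subgroup.center (Cfsg.SU 3 F q)))).map (suHom 3 F q)) : M = M' := by
  have h1 := Subgroup.map_injective suHom_injective h
  exact Subgroup.comap_injective (QuotientGroup.mk'_surjective _) h1

theorem psu3_unique (hF : Fintype.card F = q ^ 2) (hq : 4 ≤ q) (hq5 : q ≠ 5) :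
    ∃ s : PSU 3 F q, ∀ M M' : Subgroup (PSU 3 F q), IsCoatom M → IsCoatom M' → s ∈ M → s ∈ M' → M = M' := by
  obtain ⟨p, n, r, h, hchar, h7⟩ := exists_PN7 hF hq hq5
  obtain ⟨a, ha, ha7⟩ := exists_a hF h h7
  have hfin : Finite (PSU 3 F q) := Quotient.finite _
  have hfinS : Finite (Cfsg.SU 3 F q) := inferInstance
  obtain ⟨b, rfl⟩ := QuotientGroup.mk'_surjective (Subgroup.center (Cfsg.SU 3 F q)) a
  set π := QuotientGroup.mk' (Subgroup.center (Cfsg.SU 3 F q)) with hπ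
  have hrb : r ∣ orderOf b := ha.trans (orderOf_map_dvd π b)
  obtain ⟨k, hk⟩ := hrb
  have hk0 : k ≠ 0 := by
    rintro rfl
    rw [mul_zero] at hk
    exact (orderOf_pos b).ne' hk
  have hxo : orderOf (suHom 3 F q (b ^ k)) = r := by
    rw [orderOf_injective _ suHom_injective, orderOf_pow' b hk0, hk, Nat.gcd_mul_left_left,
      Nat.mul_div_cancel _ (Nat.pos_of_ne_zero hk0)]
  refine ⟨π b, fun M M' hM hM' hs hs' => ?_⟩
  have key : ∀ M : Subgroup (PSU 3 F q), IsCoatom M → π b ∈ M → ∃ K : Subalgebra F (Matrix (Fin 3) (Fin 3) F),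
      IsFieldSubalgebra 3 K ∧ ((suHom 3 F q (b ^ k) : GL (Fin 3) F) : Matrix (Fin 3) (Fin 3) F) ∈ K ∧
      (M.comap (QuotientGroup.mk' (Subgroup.center (Cfsg.SU 3 F q)))).map (suHom 3 F q) =
        subalgebraNormalizer K ⊓ SUg 3 F q := by
    intro M hM hs
    have h1 : orderOf (π b) ∣ Nat.card M := Subgroup.orderOf_dvd_natCard _ hs
    refine tor_K hF hq hq5 h hM (ha.trans h1) (fun hr7 => (ha7 hr7).trans h1) hxo ?_
    refine ⟨b ^ k, ?_, rfl⟩
    show π (b ^ k) ∈ M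
    rw [map_pow]
    exact pow_mem hs k
  obtain ⟨K, hK, hxK, he⟩ := key M hM hs
  obtain ⟨K', hK', hxK', he'⟩ := key M' hM' hs'
  have hsc : ¬ ∃ c : F, ((suHom 3 F q (b ^ k) : GL (Fin 3) F) : Matrix (Fin 3) (Fin 3) F) =
      c • (1 : Matrix (Fin 3) (Fin 3) F) := fun hc =>
    h.no_scalar (by rw [← hxo]; exact pow_orderOf_eq_one _)
      (by intro h1; rw [h1, orderOf_one] at hxo; exact h.pr.one_lt.ne hxo) hc
  have hKK : K = K' := by
    apply le_antisymm
    · intro m hm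
      exact Cfsg.Agent.H907.SU3.mem_of_comm hK' hxK' hsc (hK.comm _ hm _ hxK)
    · intro m hm
      exact Cfsg.Agent.H907.SU3.mem_of_comm hK hxK hsc (hK'.comm _ hm _ hxK')
  apply eq_of_map_eq
  rw [he, he', hKK]

/-- **`PSU₃(q)`, `q ≥ 4`, `q ≠ 5`** -/
theorem spr_psu3_aux (hF : Fintype.card F = q ^ 2) (hq : 4 ≤ q) (hq5 : q ≠ 5) : Spr (PSU 3 F q) := by
  obtain ⟨hsimp, hcen⟩ := psu3_facts hF (by omega)
  have hfin : Finite (PSU 3 F q) := Quotient.finite _
  have hna : ∃ x y : PSU 3 F q, x * y ≠ y * x := by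
    by_contra hcon
    push Not at hcon
    obtain ⟨x, hx⟩ := exists_ne (1 : PSU 3 F q)
    apply hx
    rw [← mem_bot, ← hcen, mem_center_iff]
    intro y
    exact hcon y x
  obtain ⟨s, hs⟩ := psu3_unique hF hq hq5
  exact spr_of_unique hna hs

end

end Cfsg.Agent.H947.Spr
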