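import Cfsg.Agent.H424.Spr.AltC

/-!
# 3/2-generation, `PSU₃(3)` and `PSU₃(5)` (helper947, for S3938): `A₆` and `A₇` are generated by two conjugates of any
element of order five
-/

set_option autoImplicit false
set_option linter.style.haveILetI false

namespace Cfsg.Agent.H947.Spr

open Equiv Equiv.Perm MulAction Subgroup Cfsg.Agent.H424.SprAlt

/-- two conjugates generate -/
def Gen2 {G : Type*} [Group G] (y : G) : Prop := ∃ g : G, closure {y, g * y * g⁻¹} = ⊤

theorem Gen2.map {G G' : Type*} [Group G] [Group G'] (e : G ≃* G') {y : G} (h : Gen2 y) : Gen2 (e y) := by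
  obtain ⟨g, hg⟩ := h
  refine ⟨e g, ?_⟩
  have h1 : ({e y, e g * e y * (e g)⁻¹} : Set G') = e.toMonoidHom '' {y, g * y * g⁻¹} := by
    rw [Set.image_pair]
    simp
  rw [h1, ← MonoidHom.map_closure, hg, ← MonoidHom.range_eq_map, MonoidHom.range_eq_top]
  exact e.surjective

section six

def b6 : Perm (Fin 6) := ⟨![2,5,4,3,1,0], ![5,4,0,3,2,1], by decide, by decide⟩
def g6 : Perm (Fin 6) := ⟨![0,2,4,1,5,3], ![0,3,1,5,2,4], by decide, by decide⟩

theorem gen_s6 : Gen2 (⟨s6, s6_mem⟩ : A6) := by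
  refine ⟨⟨g6, by rw [Perm.mem_alternatingGroup]; decide +kernel⟩, ?_⟩
  have hb : g6 * s6 * g6⁻¹ = b6 := by decide +kernel
  set K : Subgroup A6 := closure {⟨s6, s6_mem⟩, (⟨g6, by rw [Perm.mem_alternatingGroup]; decide +kernel⟩ : A6) *
    ⟨s6, s6_mem⟩ * (⟨g6, by rw [Perm.mem_alternatingGroup]; decide +kernel⟩ : A6)⁻¹} with hK
  have h1 : (⟨s6, s6_mem⟩ : A6) ∈ K := subset_closure (Set.mem_insert _ _)
  have h2 : (⟨b6, by rw [Perm.mem_alternatingGroup]; decide +kernel⟩ : A6) ∈ K := by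
    have h3 : (⟨b6, by rw [Perm.mem_alternatingGroup]; decide +kernel⟩ : A6) =
        (⟨g6, by rw [Perm.mem_alternatingGroup]; decide +kernel⟩ : A6) *
          ⟨s6, s6_mem⟩ * (⟨g6, by rw [Perm.mem_alternatingGroup]; decide +kernel⟩ : A6)⁻¹ := Subtype.ext hb.symm
    rw [h3]
    exact subset_closure (Set.mem_insert_of_mem _ rfl)
  refine six_top h1 h2 (by change b6 5 ≠ 5; decide) (mul_mem (mul_mem h1 h1) (inv_mem h2)) ?_
  change (s6 * s6 * b6⁻¹).IsThreeCycle
  exact card_support_eq_three_iff.1 (by decide +kernel)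

end six

section seven

def s7 : Perm (Fin 7) := ⟨![1,2,3,4,0,5,6], ![4,0,1,2,3,5,6], by decide, by decide⟩
def b7 : Perm (Fin 7) := ⟨![2,1,4,3,5,6,0], ![6,1,0,3,2,4,5], by decide, by decide⟩
def g7 : Perm (Fin 7) := ⟨![0,2,4,5,6,3,1], ![0,6,1,5,2,3,4], by decide, by decide⟩

abbrev A7 := alternatingGroup (Fin 7)

theorem s7_mem : s7 ∈ A7 := by rw [Perm.mem_alternatingGroup]; decide +kernel
theorem b7_mem : b7 ∈ A7 := by rw [Perm.mem_alternatingGroup]; decide +kernel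
theorem g7_mem : g7 ∈ A7 := by rw [Perm.mem_alternatingGroup]; decide +kernel

theorem trans7 : ∀ x : Fin 7, ∃ i j : Fin 5, (b7 ^ (i : ℕ) * s7 ^ (j : ℕ)) x = 0 := by decide +kernel

theorem gen_s7 : Gen2 (⟨s7, s7_mem⟩ : A7) := by
  refine ⟨⟨g7, g7_mem⟩, ?_⟩
  have hb : g7 * s7 * g7⁻¹ = b7 := by decide +kernel
  set K : Subgroup A7 := closure {⟨s7, s7_mem⟩, (⟨g7, g7_mem⟩ : A7) * ⟨s7, s7_mem⟩ * (⟨g7, g7_mem⟩ : A7)⁻¹} with hK
  have h1 : (⟨s7, s7_mem⟩ : A7) ∈ K := subset_closure (Set.mem_insert _ _)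
  have h2 : (⟨b7, b7_mem⟩ : A7) ∈ K := by
    have h3 : (⟨b7, b7_mem⟩ : A7) = (⟨g7, g7_mem⟩ : A7) * ⟨s7, s7_mem⟩ * (⟨g7, g7_mem⟩ : A7)⁻¹ := Subtype.ext hb.symm
    rw [h3]
    exact subset_closure (Set.mem_insert_of_mem _ rfl)
  have h1' : s7 ∈ K.map (alternatingGroup (Fin 7)).subtype := ⟨_, h1, rfl⟩
  have h2' : b7 ∈ K.map (alternatingGroup (Fin 7)).subtype := ⟨_, h2, rfl⟩
  have htr : IsPretransitive (K.map (alternatingGroup (Fin 7)).subtype) (Fin 7) := by
    have key : ∀ x : Fin 7, ∃ k : K.map (alternatingGroup (Fin 7)).subtype, k • x = 0 := by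
      intro x
      obtain ⟨i, j, hij⟩ := trans7 x
      exact ⟨⟨b7 ^ (i : ℕ) * s7 ^ (j : ℕ), mul_mem (pow_mem h2' _) (pow_mem h1' _)⟩, hij⟩
    constructor
    intro x y
    obtain ⟨k, hk⟩ := key x
    obtain ⟨l, hl⟩ := key y
    exact ⟨l⁻¹ * k, by rw [mul_smul, hk, ← hl, inv_smul_smul]⟩
  have hprim : IsPreprimitive (K.map (alternatingGroup (Fin 7)).subtype) (Fin 7) :=
    IsPreprimitive.of_prime_card (by rw [Nat.card_eq_fintype_card, Fintype.card_fin]; norm_num)
  have h3 : (s7 * b7⁻¹ * s7 * b7⁻¹).IsThreeCycle := card_support_eq_three_iff.1 (by decide +kernel)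
  exact top_of_le (alternatingGroup_le_of_isPreprimitive_of_isThreeCycle_mem hprim h3
    (mul_mem (mul_mem (mul_mem h1' (inv_mem h2')) h1') (inv_mem h2')))

end seven

theorem cycleType_of_five {n : ℕ} (hn : n ≤ 7) {y : Perm (Fin n)} (hy : orderOf y = 5) : y.cycleType = {5} := by
  have h1 : ∀ k ∈ y.cycleType, k = 5 := by
    intro k hk
    have h2 := dvd_of_mem_cycleType hk
    rw [hy] at h2
    rcases (Nat.dvd_prime (by norm_num : Nat.Prime 5)).1 h2 with h3 | h3
    · have := two_le_of_mem_cycleType hk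
      omega
    · exact h3
  have h2 := Multiset.eq_replicate_card.2 h1
  have h3 : y.cycleType.sum ≤ n := by
    rw [sum_cycleType]
    exact (Finset.card_le_univ _).trans (by rw [Fintype.card_fin])
  rw [h2, Multiset.sum_replicate, smul_eq_mul] at h3
  have h4 : y.cycleType.card ≠ 0 := by
    intro h0
    rw [card_cycleType_eq_zero] at h0
    rw [h0, orderOf_one] at hy
    omega
  have h5 : y.cycleType.card = 1 := by omega
  rw [h2, h5]
  rfl

theorem gen_of_conj {n : ℕ} (hn : n ≤ 7) {s : alternatingGroup (Fin n)} (hs : orderOf s = 5) (h : Gen2 s)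
    {y : alternatingGroup (Fin n)} (hy : orderOf y = 5) : Gen2 y := by
  have h1 : IsConj (s : Perm (Fin n)) y := by
    rw [isConj_iff_cycleType_eq, cycleType_of_five hn (by rw [Subgroup.orderOf_coe, hs]),
      cycleType_of_five hn (by rw [Subgroup.orderOf_coe, hy])]
  obtain ⟨c, hc⟩ := isConj_iff.1 h1
  have h2 : (MulAut.conjNormal c : MulAut (alternatingGroup (Fin n))) s = y := by
    apply Subtype.ext
    rw [MulAut.conjNormal_apply]
    exact hc
  rw [← h2]
  exact h.map _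

theorem gen_a6 {y : alternatingGroup (Fin 6)} (hy : orderOf y = 5) : Gen2 y := by
  refine gen_of_conj (by norm_num) (s := ⟨s6, s6_mem⟩) ?_ gen_s6 hy
  have : Fact (Nat.Prime 5) := ⟨by norm_num⟩
  rw [Subgroup.orderOf_mk]
  exact orderOf_eq_prime (by decide +kernel) (by decide +kernel)

theorem gen_a7 {y : alternatingGroup (Fin 7)} (hy : orderOf y = 5) : Gen2 y := by
  refine gen_of_conj le_rfl (s := ⟨s7, s7_mem⟩) ?_ gen_s7 hy
  have : Fact (Nat.Prime 5) := ⟨by norm_num⟩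
  rw [Subgroup.orderOf_mk]
  exact orderOf_eq_prime (by decide +kernel) (by decide +kernel)

end Cfsg.Agent.H947.Spr
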