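import Cfsg.Agent.H947.Spr.Psu3
import Cfsg.Agent.H947.Spr.PsuGen
import Cfsg.Agent.S0255
import Cfsg.Agent.S0799

/-!
# 3/2-generation, `PSU₃(3)` and `PSU₃(5)` (helper947, for S3938): the residual class
-/

set_option autoImplicit false
set_option linter.style.haveILetI false
set_option linter.unusedSectionVars false

namespace Cfsg.Agent.H947.Spr

open Subgroup Cfsg Cfsg.Geo Cfsg.Agent.H947.Sq Module Cfsg.Agent.H918 Cfsg.Agent.H907.Mx Cfsg.Agent.H947.El
open Cfsg.Agent.H424.Spr Cfsg.Agent.H947.Cyc Cfsg.Agent.H947.Cv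
open scoped MatrixGroups Matrix

theorem conj_injective {S : Type*} [Group S] (hc : center S = ⊥) :
    Function.Injective (MulAut.conj : S →* MulAut S) := by
  rw [injective_iff_map_eq_one]
  intro g hg
  rw [← mem_bot, ← hc, mem_center_iff]
  intro x
  have h2 := DFunLike.congr_fun hg x
  simp only [MulAut.conj_apply, MulAut.one_apply] at h2
  exact (mul_inv_eq_iff_eq_mul.1 h2).symm

/-- powers of automorphisms are inner -/
theorem exists_conj_pow {S : Type*} [Group S] [Finite S] {k : ℕ} (hc : center S = ⊥)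
    (hk : Nat.card (MulAut S) ∣ k * Nat.card S) (α : MulAut S) : ∃ y : S, MulAut.conj y = α ^ k := by
  have hinj := conj_injective hc
  have h1 : Nat.card (MulAut.conj : S →* MulAut S).range = Nat.card S :=
    (Nat.card_congr (MonoidHom.ofInjective hinj).toEquiv).symm
  have h2 := (MulAut.conj : S →* MulAut S).range.card_mul_index
  rw [h1] at h2
  have h3 : (MulAut.conj : S →* MulAut S).range.index ∣ k := by
    rw [← h2, mul_comm] at hk
    exact Nat.dvd_of_mul_dvd_mul_right Nat.card_pos hk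
  have hn : (MulAut.conj : S →* MulAut S).range.Normal := by
    refine ⟨fun x ⟨y, hy⟩ g => ⟨g y, ?_⟩⟩
    ext z
    rw [← hy]
    simp [MulAut.mul_apply, MulAut.conj_apply]
  have h4 := (MulAut.conj : S →* MulAut S).range.pow_index_mem α
  have h5 : α ^ k ∈ (MulAut.conj : S →* MulAut S).range := by
    obtain ⟨t, ht⟩ := h3
    rw [ht, pow_mul]
    exact pow_mem h4 t
  exact h5

/-- automorphisms whose order is coprime to the index of the inner ones -/
theorem exists_conj {S : Type*} [Group S] [Finite S] {k j : ℕ} (hc : center S = ⊥)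
    (hk : Nat.card (MulAut S) ∣ k * Nat.card S) {α : MulAut S} (hα : α ^ j = 1) (hkj : Nat.Coprime k j) :
    ∃ y : S, MulAut.conj y = α := by
  have h5 : α ^ k ∈ (MulAut.conj : S →* MulAut S).range := exists_conj_pow hc hk α
  have h6 : Nat.Coprime k (orderOf α) := hkj.coprime_dvd_right (orderOf_dvd_of_pow_eq_one hα)
  obtain ⟨m, hm⟩ := exists_pow_eq_self_of_coprime h6
  rw [← hm]
  exact pow_mem h5 m

section

variable {F : Type*} [Field F] [Fintype F] {q : ℕ} {H P : Subgroup (GL (Fin 3) F)}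

/-- **No transvections in the residual class** (if the socle is generated by two conjugates) -/
theorem no_transvection (hP : IsResidualCore H P) {u : GL (Fin 3) F} (hu : u ∈ H)
    {φ : (Fin 3 → F) →ₗ[F] F}
    (hφ : ∀ v : Fin 3 → F, φ v = 0 → (u : Matrix (Fin 3) (Fin 3) F) *ᵥ v = v)
    (hgen : ∃ y : PQ P, MulAut.conj y = cQ hP ⟨u, hu⟩ ∧ Gen2 y) : False := by
  obtain ⟨y, hy, g, hg⟩ := hgen
  obtain ⟨w, rfl⟩ := QuotientGroup.mk_surjective y
  obtain ⟨g, rfl⟩ := QuotientGroup.mk_surjective g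
  -- `u = w c`
  have hw : cQ hP ⟨w, hP.le w.2⟩ = MulAut.conj (QuotientGroup.mk w : PQ P) := by
    apply MulEquiv.ext
    intro x
    obtain ⟨x, rfl⟩ := QuotientGroup.mk_surjective x
    rw [cQ_mk, MulAut.conj_apply]
    rfl
  have hc1 : cQ hP (⟨w, hP.le w.2⟩⁻¹ * ⟨u, hu⟩) = 1 := by
    rw [map_mul, map_inv, hw, hy, inv_mul_cancel]
  have hc : (w : GL (Fin 3) F)⁻¹ * u ∈ scalars (Fin 3) F := (cQ_ker hP).1 hc1
  obtain ⟨c, hc2⟩ := (mem_scalars_iff _).1 hc
  -- a common fixed vector
  let ψ : (Fin 3 → F) →ₗ[F] (Fin 2 → F) := LinearMap.pi ![φ, φ.comp (Matrix.toLin' ((g : GL (Fin 3) F)⁻¹ : GL (Fin 3) F).1)]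
  have hker : LinearMap.ker ψ ≠ ⊥ := LinearMap.ker_ne_bot_of_finrank_lt (by simp)
  obtain ⟨v, hv, hv0⟩ := (Submodule.ne_bot_iff _).1 hker
  rw [LinearMap.mem_ker] at hv
  have hv1 : φ v = 0 := congrFun hv 0
  have hv2 : φ (((g : GL (Fin 3) F)⁻¹ : GL (Fin 3) F).1 *ᵥ v) = 0 := congrFun hv 1
  have hue : (u : Matrix (Fin 3) (Fin 3) F) = (w : GL (Fin 3) F).1 * (c : F) • (1 : Matrix (Fin 3) (Fin 3) F) := by
    rw [← hc2, ← Units.val_mul, mul_inv_cancel_left]
  have hwu : ∀ z : Fin 3 → F, φ z = 0 → (w : GL (Fin 3) F).1 *ᵥ z = ((c : F)⁻¹) • z := by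
    intro z hz
    have h1 := hφ z hz
    rw [hue, ← Matrix.mulVec_mulVec, Matrix.smul_mulVec, Matrix.one_mulVec, Matrix.mulVec_smul] at h1
    rw [← h1, smul_smul, inv_mul_cancel₀ c.ne_zero, one_smul, h1]
  -- the line
  set L := subspaceStabilizer (Submodule.span F {v}) with hL
  have hmem : ∀ (x : GL (Fin 3) F) (a : F), a ≠ 0 → x.1 *ᵥ v = a • v → x ∈ L := by
    intro x a ha hx z
    constructor
    · intro hz
      obtain ⟨b, rfl⟩ := Submodule.mem_span_singleton.1 hz
      show x.1 *ᵥ (b • v) ∈ Submodule.span F {v}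
      rw [Matrix.mulVec_smul, hx]
      exact Submodule.smul_mem _ _ (Submodule.smul_mem _ _ (Submodule.mem_span_singleton_self v))
    · intro hz
      obtain ⟨b, hb⟩ := Submodule.mem_span_singleton.1 hz
      have hb' : b • v = x.1 *ᵥ z := hb
      show z ∈ Submodule.span F {v}
      have h1 : x.1 *ᵥ ((b * a⁻¹) • v) = x.1 *ᵥ z := by
        rw [Matrix.mulVec_smul, hx, smul_smul, ← hb', mul_assoc, inv_mul_cancel₀ ha, mul_one]
      have h2 : (b * a⁻¹) • v = z := by
        have h3 := congrArg (fun t => (x⁻¹ : GL (Fin 3) F).1 *ᵥ t) h1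
        simp only [Matrix.mulVec_mulVec, ← Units.val_mul, inv_mul_cancel, Units.val_one, Matrix.one_mulVec] at h3
        exact h3
      rw [← h2]
      exact Submodule.smul_mem _ _ (Submodule.mem_span_singleton_self v)
  have h1 : w.1 ∈ L := hmem _ _ (inv_ne_zero c.ne_zero) (hwu v hv1)
  have h2 : (g : GL (Fin 3) F) * w * (g : GL (Fin 3) F)⁻¹ ∈ L := by
    refine hmem _ _ (inv_ne_zero c.ne_zero) ?_
    rw [Units.val_mul, Units.val_mul, ← Matrix.mulVec_mulVec, ← Matrix.mulVec_mulVec, hwu _ hv2, Matrix.mulVec_smul,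
      Matrix.mulVec_mulVec, ← Units.val_mul, mul_inv_cancel, Units.val_one, Matrix.one_mulVec]
  have h3 : scalars (Fin 3) F ≤ L := by
    intro s hs
    obtain ⟨d, hd⟩ := (mem_scalars_iff _).1 hs
    refine hmem s d d.ne_zero ?_
    rw [hd, Matrix.smul_mulVec, Matrix.one_mulVec]
  have h4 : L.subgroupOf P = ⊤ := by
    have h5 : (L.subgroupOf P).map (QuotientGroup.mk' ((scalars (Fin 3) F).subgroupOf P)) = ⊤ := by
      rw [eq_top_iff, ← hg, closure_le]
      rintro _ (rfl | rfl)
      · exact ⟨w, h1, rfl⟩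
      · exact ⟨g * w * g⁻¹, h2, rfl⟩
    have h6 : (scalars (Fin 3) F).subgroupOf P ≤ L.subgroupOf P := fun x hx => h3 hx
    have h7 := Subgroup.comap_map_eq_self (f := QuotientGroup.mk' ((scalars (Fin 3) F).subgroupOf P))
      (H := L.subgroupOf P) (by rw [QuotientGroup.ker_mk']; exact h6)
    rw [h5, comap_top] at h7
    exact h7.symm
  have h5 : P ≤ L := by rwa [Subgroup.subgroupOf_eq_top] at h4
  rcases hP.absIrred.1 (Submodule.span F {v}) (by
    rintro _ ⟨x, hx, rfl⟩
    rintro _ ⟨z, hz, rfl⟩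
    exact (h5 hx z).1 hz) with h6 | h6
  · rw [Submodule.span_singleton_eq_bot] at h6
    exact hv0 h6
  · have h7 : Module.finrank F (Submodule.span F {v}) = 1 := finrank_span_singleton hv0
    rw [h6, finrank_top, Module.finrank_fin_fun] at h7
    omega

theorem center_of_core (hP : IsResidualCore H P) : center (PQ P) = ⊥ := by
  have hs := hP.simple
  rcases hs.eq_bot_or_eq_top_of_normal (center (PQ P)) inferInstance with h | h
  · exact h
  · exfalso
    apply hP.nonabelian
    refine ⟨⟨fun a b => ?_⟩⟩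
    exact (mem_center_iff.1 (h ▸ mem_top b : b ∈ center (PQ P)) a)

/-- `A₆` and `A₇` -/
theorem no_alt (hP : IsResidualCore H P) {n : ℕ} (hn : n = 6 ∨ n = 7) (e : PQ P ≃* alternatingGroup (Fin n))
    {u : GL (Fin 3) F} (hu : u ∈ H) (hus : u ∉ scalars (Fin 3) F) (hu5 : u ^ 5 = 1) {φ : (Fin 3 → F) →ₗ[F] F}
    (hφ : ∀ v : Fin 3 → F, φ v = 0 → (u : Matrix (Fin 3) (Fin 3) F) *ᵥ v = v) : False := by
  have hc := center_of_core hP
  have hfin : Finite (PQ P) := Finite.of_injective e e.injective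
  have h1 : ∃ k, Nat.card (MulAut (PQ P)) ∣ k * Nat.card (PQ P) ∧ Nat.Coprime k 5 := by
    rcases hn with rfl | rfl
    · refine ⟨4, ?_, by norm_num⟩
      rw [Nat.card_congr (MulAut.congr e).toEquiv, Cfsg.Agent.H824.ProdLem.card_aut_a6, Nat.card_congr e.toEquiv,
        nat_card_alternatingGroup, Nat.card_eq_fintype_card, Fintype.card_fin]
      decide
    · refine ⟨2, ?_, by norm_num⟩
      rw [Nat.card_congr (MulAut.congr e).toEquiv, Nat.card_congr e.toEquiv, nat_card_alternatingGroup,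
        Nat.card_eq_fintype_card (α := Fin 7), Fintype.card_fin]
      exact card_aut_a7
  obtain ⟨k, hk, hk5⟩ := h1
  have hα5 : cQ hP ⟨u, hu⟩ ^ 5 = 1 := by
    rw [← map_pow]
    have : (⟨u, hu⟩ : H) ^ 5 = 1 := Subtype.ext hu5
    rw [this, map_one]
  obtain ⟨y, hy⟩ := exists_conj hc hk hα5 hk5
  refine no_transvection hP hu hφ ⟨y, hy, ?_⟩
  have hy5 : orderOf y = 5 := by
    have : Fact (Nat.Prime 5) := ⟨by norm_num⟩
    refine orderOf_eq_prime ?_ ?_
    · apply conj_injective hc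
      rw [map_pow, hy, hα5, map_one]
    · rintro rfl
      rw [map_one] at hy
      exact hus ((cQ_ker hP).1 hy.symm)
  have hey : orderOf (e y) = 5 := by rw [e.orderOf_eq, hy5]
  have h2 : Gen2 (e y) := by
    rcases hn with rfl | rfl
    · exact gen_a6 hey
    · exact gen_a7 hey
  have h3 := h2.map e.symm
  rwa [e.symm_apply_apply] at h3

/-- `PSL₂(7)` has no elements of order six -/
theorem no_six {K : Type*} [Field K] [Fintype K] (hK : Fintype.card K = 7)
    (x : Matrix.ProjectiveSpecialLinearGroup (Fin 2) K) : orderOf x ≠ 6 := by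
  intro hx
  classical
  obtain ⟨p, hchar⟩ := CharP.exists K
  have hp : Fact p.Prime := ⟨CharP.char_is_prime K p⟩
  obtain ⟨⟨N, hN0⟩, hpN, hN⟩ := FiniteField.card K p
  simp only [PNat.mk_coe] at hN
  have hp7 : p = 7 := by
    rw [hK] at hN
    exact (Nat.prime_dvd_prime_iff_eq hp.out (by norm_num)).1 (by rw [hN]; exact dvd_pow_self p hN0.ne')
  subst hp7
  have : Finite (Matrix.ProjectiveSpecialLinearGroup (Fin 2) K) := Quotient.finite _
  have hcard : Nat.card (Matrix.ProjectiveSpecialLinearGroup (Fin 2) K) = 168 := by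
    have h1 := Cfsg.Agent.H394.SqPsl2.card_psl (F := K)
    rw [hK] at h1
    have h2 : Nat.gcd 2 (7 - 1) = 2 := rfl
    rw [h2] at h1
    omega
  have h6 : Nat.card (zpowers x) = 6 := by rw [Nat.card_zpowers, hx]
  rcases Cfsg.Agent.S0799.result hK 7 (zpowers x) with ⟨k, hk, hk'⟩ | ⟨P, K', hK', ⟨e⟩⟩ | ⟨⟨e⟩⟩ | ⟨⟨e⟩⟩ | ⟨⟨e⟩⟩ |
    ⟨K', iK, iK', m, hm, he⟩
  · rcases hk' with ⟨-, h⟩ | ⟨⟨e⟩⟩
    · rw [h6] at h
      subst h
      rcases hk with h | h
      · revert h; decide
      · revert h; decide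
    · have h7 := Nat.card_congr e.toEquiv
      rw [h6, DihedralGroup.nat_card] at h7
      have h8 : k = 3 := by omega
      subst h8
      have h9 : ∀ a b : DihedralGroup 3, a * b = b * a := by
        intro a b
        have h10 : e.symm a * e.symm b = e.symm b * e.symm a := by
          obtain ⟨i, hi⟩ := mem_zpowers_iff.1 (e.symm a).2
          obtain ⟨j, hj⟩ := mem_zpowers_iff.1 (e.symm b).2
          apply Subtype.ext
          rw [Subgroup.coe_mul, Subgroup.coe_mul, ← hi, ← hj]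
          exact ((Commute.refl x).zpow_zpow i j)
        rw [← map_mul, ← map_mul] at h10
        exact e.symm.injective h10
      have h11 := h9 (DihedralGroup.r 1) (DihedralGroup.sr 0)
      revert h11
      decide
  · have h1 := Cfsg.Agent.H436.TT.index_normalizer (F := K) 7 P
    rw [hK] at h1
    have h2 := (normalizer ((P : Subgroup (Matrix.ProjectiveSpecialLinearGroup (Fin 2) K)) :
      Set (Matrix.ProjectiveSpecialLinearGroup (Fin 2) K))).card_mul_index
    rw [h1, hcard] at h2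
    have h3 : 6 ∣ Nat.card (normalizer ((P : Subgroup (Matrix.ProjectiveSpecialLinearGroup (Fin 2) K)) :
      Set (Matrix.ProjectiveSpecialLinearGroup (Fin 2) K))) := by
      rw [← h6, Nat.card_congr e.toEquiv]
      exact card_dvd_of_le hK'
    omega
  · rw [Nat.card_congr e.toEquiv, nat_card_alternatingGroup, Nat.card_eq_fintype_card, Fintype.card_fin] at h6
    revert h6
    decide
  · rw [Nat.card_congr e.toEquiv, Nat.card_perm, Nat.card_eq_fintype_card, Fintype.card_fin] at h6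
    revert h6
    decide
  · rw [Nat.card_congr e.toEquiv, nat_card_alternatingGroup, Nat.card_eq_fintype_card, Fintype.card_fin] at h6
    revert h6
    decide
  · have hm0 : m ≠ 0 := by rintro rfl; rw [pow_zero] at hm; omega
    have hK1 : 1 < Fintype.card K' := Fintype.one_lt_card
    have hK7 : Fintype.card K' = 7 := by
      have h1 : Fintype.card K' ∣ 7 := by rw [← hm]; exact dvd_pow_self _ hm0
      rcases (Nat.dvd_prime (by norm_num : Nat.Prime 7)).1 h1 with h2 | h2
      · omega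
      · exact h2
    rcases he with ⟨⟨e⟩⟩ | ⟨⟨e⟩⟩
    · have h1 := Cfsg.Agent.H394.SqPsl2.card_psl (F := K')
      rw [hK7, ← Nat.card_congr e.toEquiv, h6] at h1
      have h2 : Nat.gcd 2 (7 - 1) = 2 := rfl
      rw [h2] at h1
      omega
    · have h1 := Cfsg.Agent.H394.SqPsl2.card_pgl (F := K')
      rw [hK7, ← Nat.card_congr e.toEquiv, h6] at h1
      omega

/-- `PSL₃(2)` -/
theorem no_l32 (hP : IsResidualCore H P) (e : PQ P ≃* Matrix.ProjectiveSpecialLinearGroup (Fin 3) (ZMod 2))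
    {x : GL (Fin 3) F} (hx : x ∈ H) (hx12 : x ^ 12 = 1) (hx4 : x ^ 4 ∉ scalars (Fin 3) F)
    (hx6 : x ^ 6 ∉ scalars (Fin 3) F) : False := by
  have hc := center_of_core hP
  have : Fact (Nat.Prime 2) := ⟨Nat.prime_two⟩
  have : Fact (Nat.Prime 7) := ⟨by norm_num⟩
  obtain ⟨e'⟩ := Cfsg.Agent.S0255.result (F := ZMod 7) (K := ZMod 2) (ZMod.card 7) (ZMod.card 2)
  have hfin7 : Finite (Matrix.ProjectiveSpecialLinearGroup (Fin 2) (ZMod 7)) := Quotient.finite _
  have f : PQ P ≃* Matrix.ProjectiveSpecialLinearGroup (Fin 2) (ZMod 7) := e.trans e'.symm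
  have hfin : Finite (PQ P) := Finite.of_injective f f.injective
  have hcard : Nat.card (PQ P) = 168 := by
    rw [Nat.card_congr f.toEquiv]
    have h1 := Cfsg.Agent.H394.SqPsl2.card_psl (F := ZMod 7)
    rw [ZMod.card] at h1
    have h2 : Nat.gcd 2 (7 - 1) = 2 := rfl
    rw [h2] at h1
    omega
  have hk : Nat.card (MulAut (PQ P)) ∣ 2 * Nat.card (PQ P) := by
    rw [hcard, Nat.card_congr (MulAut.congr e).toEquiv]
    exact card_aut_l32
  obtain ⟨y, hy⟩ := exists_conj_pow hc hk (cQ hP ⟨x, hx⟩)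
  have hpow : ∀ j : ℕ, y ^ j = 1 ↔ x ^ (2 * j) ∈ scalars (Fin 3) F := by
    intro j
    rw [← (conj_injective hc).eq_iff, map_pow, hy, map_one, ← pow_mul, ← map_pow, cQ_ker]
    rfl
  have hy6 : orderOf y = 6 := by
    refine orderOf_eq_of_pow_and_pow_div_prime (by norm_num) ((hpow 6).2 ?_) ?_
    · rw [show 2 * 6 = 12 by norm_num, hx12]
      exact one_mem _
    · intro p hp hp6
      have hp' : p = 2 ∨ p = 3 := by
        have h6 : p ∣ 2 * 3 := hp6
        rcases hp.dvd_mul.1 h6 with h1 | h1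
        · exact Or.inl ((Nat.prime_dvd_prime_iff_eq hp Nat.prime_two).1 h1)
        · exact Or.inr ((Nat.prime_dvd_prime_iff_eq hp Nat.prime_three).1 h1)
      rcases hp' with rfl | rfl
      · exact fun h => hx6 ((hpow 3).1 h)
      · exact fun h => hx4 ((hpow 2).1 h)
  exact no_six (ZMod.card 7) (f y) (by rw [f.orderOf_eq, hy6])

end

end Cfsg.Agent.H947.Spr
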